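import Cfsg.Agent.Lib.J4Type86.Isolation
import Cfsg.Agent.Lib.PCore.Basic
import Cfsg.Agent.Lib.Golay.Mathieu
import Mathlib.GroupTheory.FixedPointFree
import Mathlib.GroupTheory.SpecificGroups.ZGroup

/-!
# `C_H(P)` is the six-fold cover of `M22` and `N_G(P) ≤ H`

The hypothesis is one conjugate `a ≠ z` of `z` in `C = C_H(P)` whose centraliser in `C` has `z` in its
derived subgroup.

`z` inverts `O = O(C_G(P))` modulo `P`; so does `a`, as `C_O(a) = P`; hence `az` centralizes `O` and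
so does the perfect group `C`.
-/

set_option autoImplicit false

namespace CfsgLib.J4Type86

open Cfsg CfsgLib.LargeExtra
open scoped Pointwise commutatorElement

/-- The hypothesis on `z` and `P` from which the six-fold cover is derived. -/
def HasWitness {G : Type*} [Group G] (z : G) (P : Subgroup G) : Prop :=
  ∃ a : G, a ∈ cC z P ∧ a ≠ z ∧ IsConj z a ∧
    z ∈ ⁅cC z P ⊓ Subgroup.centralizer ({a} : Set G), cC z P ⊓ Subgroup.centralizer ({a} : Set G)⁆

theorem commutator_M22 : commutator ↥Spor.M22 = ⊤ ∧ Subgroup.center ↥Spor.M22 = ⊥ := by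
  haveI := CfsgLib.Golay.isSimpleGroup_sporM22
  have hna : ¬ ∀ a b : ↥Spor.M22, a * b = b * a := by
    intro h
    letI : CommGroup ↥Spor.M22 := { (inferInstance : Group ↥Spor.M22) with mul_comm := h }
    have hp : (Nat.card ↥Spor.M22).Prime := IsSimpleGroup.prime_card
    rw [CfsgLib.Golay.natCard_sporM22] at hp
    norm_num at hp
  refine ⟨((commutator ↥Spor.M22).normal_of_characteristic.eq_bot_or_eq_top).resolve_left
      fun h => hna fun a b => ?_,
    ((Subgroup.center ↥Spor.M22).normal_of_characteristic.eq_bot_or_eq_top).resolve_right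
      fun h => hna fun a b => ?_⟩
  · have := Subgroup.commutator_mem_commutator (Subgroup.mem_top a) (Subgroup.mem_top b)
    rw [← commutator_def, h, Subgroup.mem_bot, commutatorElement_def] at this
    exact mul_inv_eq_iff_eq_mul.mp (mul_inv_eq_one.mp this)
  · exact (Subgroup.mem_center_iff.mp (h ▸ Subgroup.mem_top b) a)

variable {G : Type*} [Group G] [Finite G] {z : G} {P : Subgroup G}
  (hJ : IsOfJankoFourTypeWith z P)
include hJ

theorem commutator_cC_eq (hw : HasWitness z P) : ⁅cC z P, cC z P⁆ = cC z P := by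
  obtain ⟨ρ, hρs, hρ⟩ := exists_rho hJ
  obtain ⟨a, -, -, -, hza⟩ := hw
  have hz : z ∈ ⁅cC z P, cC z P⁆ := Subgroup.commutator_mono inf_le_left inf_le_left hza
  have hP : P ≤ ⁅cC z P, cC z P⁆ := hJ.2.2.2.2.2.2.2.2
  refine le_antisymm (Subgroup.commutator_le_self _) fun c hc => ?_
  have htop : (commutator ↥(cC z P)).map ρ = ⊤ := by
    rw [commutator_def, Subgroup.map_commutator, Subgroup.map_top_of_surjective ρ hρs,
      ← commutator_def, commutator_M22.1]
  obtain ⟨d, hd, hde⟩ : ρ ⟨c, hc⟩ ∈ (commutator ↥(cC z P)).map ρ := htop ▸ Subgroup.mem_top _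
  have hd' : (d : G) ∈ ⁅cC z P, cC z P⁆ := by
    rw [← Subgroup.map_subtype_commutator]
    exact ⟨d, hd, rfl⟩
  obtain ⟨p, hp, hk⟩ := (hρ (d⁻¹ * ⟨c, hc⟩)).mp (by rw [map_mul, map_inv, hde, inv_mul_cancel])
  have hck : (d : G)⁻¹ * c ∈ ⁅cC z P, cC z P⁆ := by
    rcases hk with e | e <;>
      rw [show (d : G)⁻¹ * c = ((d⁻¹ * ⟨c, hc⟩ : ↥(cC z P)) : G) from rfl, e]
    · exact hP hp
    · exact mul_mem (hP hp) hz
  simpa using mul_mem hd' hck

/-- `Z(C) = ker ρ`. -/
theorem center_cC_eq {ρ : ↥(cC z P) →* ↥Spor.M22} (hρs : Function.Surjective ρ)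
    (hρ : ∀ c : ↥(cC z P), ρ c = 1 ↔ ∃ p ∈ P, (c : G) = p ∨ (c : G) = p * z) :
    Subgroup.center ↥(cC z P) = ρ.ker := by
  refine le_antisymm (fun c hc => ?_) fun c hc => Subgroup.mem_center_iff.mpr fun g => ?_
  · have h : ρ c ∈ Subgroup.center ↥Spor.M22 := by
      refine Subgroup.mem_center_iff.mpr fun m => ?_
      obtain ⟨g, rfl⟩ := hρs m
      rw [← map_mul, ← map_mul, Subgroup.mem_center_iff.mp hc g]
    rwa [commutator_M22.2, Subgroup.mem_bot, ← MonoidHom.mem_ker] at h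
  · exact Subtype.ext (commute_ker hJ ((hρ c).mp hc) g.2).eq.symm

theorem card_ker_rho {ρ : ↥(cC z P) →* ↥Spor.M22}
    (hρ : ∀ c : ↥(cC z P), ρ c = 1 ↔ ∃ p ∈ P, (c : G) = p ∨ (c : G) = p * z) :
    IsCyclic ρ.ker ∧ Nat.card ρ.ker = 6 := by
  obtain ⟨q, hq, hq1⟩ : ∃ q ∈ P, q ≠ 1 := by
    refine P.bot_or_exists_ne_one.resolve_left fun hbot => ?_
    have := card_P hJ
    rw [hbot, Subgroup.card_bot] at this
    omega
  set k : ρ.ker := ⟨⟨q * z, mul_mem (P_le_cC hJ hq) (z_mem_cC hJ)⟩,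
    (hρ _).mpr ⟨q, hq, Or.inr rfl⟩⟩ with hk
  have hok : orderOf k = 6 := by
    rw [← Subgroup.orderOf_coe, ← Subgroup.orderOf_coe]
    show orderOf (q * z) = 6
    have hc : Commute q z := Subgroup.mem_centralizer_iff.mp (z_mem_centP hJ) q hq
    have h3 : orderOf q = 3 := by
      haveI : Fact (Nat.Prime 3) := ⟨Nat.prime_three⟩
      exact orderOf_eq_prime (pow_three_P hJ hq) hq1
    rw [hc.orderOf_mul_eq_mul_orderOf_of_coprime (by rw [h3, hJ.1]; norm_num), h3, hJ.1]
  have hcard : Nat.card ρ.ker = 6 := by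
    refine le_antisymm ?_ (hok ▸ Nat.le_of_dvd Nat.card_pos (orderOf_dvd_natCard k))
    have h := Nat.card_le_card_of_injective
      (β := ↥((P : Set G) * (Subgroup.zpowers z : Set G)))
      (fun g : ρ.ker => ⟨((g : ↥(cC z P)) : G), by
        obtain ⟨p, hp, e | e⟩ := (hρ _).mp g.2
        · exact Set.mem_mul.mpr ⟨p, hp, 1, one_mem _, by rw [mul_one, e]⟩
        · exact Set.mem_mul.mpr ⟨p, hp, z, Subgroup.mem_zpowers z, e.symm⟩⟩)
      fun x y h => Subtype.ext (Subtype.ext (congrArg Subtype.val h :))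
    refine h.trans (Set.natCard_mul_le.trans ?_)
    show Nat.card P * Nat.card (Subgroup.zpowers z) ≤ 6
    rw [card_P hJ, Nat.card_zpowers, hJ.1]
  exact ⟨isCyclic_of_orderOf_eq_card k (by rw [hok, hcard]), hcard⟩

theorem card_cC : Nat.card ↥(cC z P) = 6 * 443520 := by
  obtain ⟨ρ, hρs, hρ⟩ := exists_rho hJ
  rw [Subgroup.card_eq_card_quotient_mul_card_subgroup ρ.ker, (card_ker_rho hJ hρ).2,
    Nat.card_congr (QuotientGroup.quotientKerEquivOfSurjective ρ hρs).toEquiv,
    CfsgLib.Golay.natCard_sporM22]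

/-- A Sylow 3-subgroup of `C` has order 27, contains `P` and has centre `P`. -/
theorem exists_sylow : ∃ S : Subgroup G, S ≤ cC z P ∧ P ≤ S ∧ Nat.card S = 27 ∧
    ∀ s ∈ S, (∀ t ∈ S, Commute s t) → s ∈ P := by
  haveI : Fact (Nat.Prime 3) := ⟨Nat.prime_three⟩
  set P' : Subgroup ↥(cC z P) := P.subgroupOf (cC z P) with hP'
  have hP3 : Nat.card P' = 3 := by
    rw [hP', Nat.card_congr (Subgroup.subgroupOfEquivOfLe (P_le_cC hJ)).toEquiv, card_P hJ]
  obtain ⟨T, hT⟩ := IsPGroup.exists_le_sylow (IsPGroup.of_card (p := 3) (n := 1) (by simpa using hP3))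
  have hTc : Nat.card T = 27 := by
    rw [Sylow.card_eq_multiplicity, card_cC hJ, show (6 * 443520 : ℕ) = 3 ^ 3 * 98560 by norm_num,
      Nat.factorization_mul (by norm_num) (by norm_num), Finsupp.add_apply,
      Nat.prime_three.factorization_pow, Finsupp.single_eq_same,
      Nat.factorization_eq_zero_of_not_dvd (by norm_num)]
    norm_num
  have hcen : ∀ p : ↥(cC z P), p ∈ P' → ∀ c : ↥(cC z P), p * c = c * p := fun p hp c =>
    Subtype.ext (commute_ker hJ ⟨(p : G), hp, Or.inl rfl⟩ c.2).eq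
  -- `T` is not abelian
  have hna : ¬ ∀ x y : ↥(T : Subgroup ↥(cC z P)), x * y = y * x := by
    intro hab
    letI : CommGroup ↥(T : Subgroup ↥(cC z P)) :=
      { (inferInstance : Group ↥(T : Subgroup ↥(cC z P))) with mul_comm := hab }
    obtain ⟨q, hq, hq1⟩ := P'.bot_or_exists_ne_one.resolve_left fun hbot => by
      rw [hbot, Subgroup.card_bot] at hP3
      omega
    have htr := MonoidHom.transfer_eq_pow (MonoidHom.id ↥(T : Subgroup ↥(cC z P))) q
      (fun n g₀ _ => by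
        rw [mul_assoc, hcen _ (pow_mem hq n) g₀, inv_mul_cancel_left])
    have hin : q ∈ (MonoidHom.transfer (MonoidHom.id ↥(T : Subgroup ↥(cC z P)))).ker := by
      refine Abelianization.commutator_subset_ker _ ?_
      have h := hJ.2.2.2.2.2.2.2.2 (show (q : G) ∈ P from hq)
      rw [← Subgroup.map_subtype_commutator] at h
      obtain ⟨u, hu, hue⟩ := h
      rwa [show q = u from Subtype.ext hue.symm]
    rw [MonoidHom.mem_ker, htr, MonoidHom.id_apply, Subtype.ext_iff] at hin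
    have hpow : q ^ (T : Subgroup ↥(cC z P)).index = 1 := hin
    have hq3 : q ^ 3 = 1 := Subtype.ext (pow_three_P hJ hq)
    rw [← orderOf_dvd_iff_pow_eq_one, orderOf_eq_prime hq3 hq1] at hpow
    exact T.not_dvd_index hpow
  -- its centre is `P'`
  have hcT : ∀ s : ↥(T : Subgroup ↥(cC z P)),
      s ∈ Subgroup.center ↥(T : Subgroup ↥(cC z P)) → (s : ↥(cC z P)) ∈ P' := by
    set Z := Subgroup.center ↥(T : Subgroup ↥(cC z P)) with hZ
    have hle : P'.subgroupOf (T : Subgroup ↥(cC z P)) ≤ Z := fun p hp =>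
      Subgroup.mem_center_iff.mpr fun g => Subtype.ext (hcen _ hp g).symm
    have h3 : Nat.card (P'.subgroupOf (T : Subgroup ↥(cC z P))) = 3 := by
      rw [Nat.card_congr (Subgroup.subgroupOfEquivOfLe hT).toEquiv, hP3]
    have hsmall : Nat.card Z ≤ 3 := by
      obtain ⟨k, hk, hZk⟩ := (Nat.dvd_prime_pow Nat.prime_three).mp
        (show Nat.card Z ∣ 3 ^ 3 by simpa [hTc] using Subgroup.card_subgroup_dvd_card Z)
      by_contra hgt
      have hk2 : 2 ≤ k := by
        rcases Nat.lt_or_ge k 2 with h | h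
        · interval_cases k <;> simp_all
        · exact h
      have hq : Nat.card (↥(T : Subgroup ↥(cC z P)) ⧸ Z) = 1 ∨
          Nat.card (↥(T : Subgroup ↥(cC z P)) ⧸ Z) = 3 := by
        have h := Subgroup.card_eq_card_quotient_mul_card_subgroup Z
        rw [hTc, hZk] at h
        interval_cases k <;> norm_num at h <;> omega
      have hcyc : IsCyclic (↥(T : Subgroup ↥(cC z P)) ⧸ Z) := by
        rcases hq with h | h
        · haveI := (Nat.card_eq_one_iff_unique.mp h).1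
          infer_instance
        · exact isCyclic_of_prime_card h
      exact hna ((MonoidHom.isMulCommutative_of_isCyclic_of_ker_le_center (QuotientGroup.mk' Z)
        (by rw [QuotientGroup.ker_mk'])).is_comm.comm)
    intro s hs
    have heq : P'.subgroupOf (T : Subgroup ↥(cC z P)) = Z :=
      Subgroup.eq_of_le_of_card_ge hle (by rw [h3]; exact hsmall)
    rw [← heq] at hs
    exact hs
  refine ⟨(T : Subgroup ↥(cC z P)).map (cC z P).subtype, Subgroup.map_subtype_le _,
    fun p hp => ⟨⟨p, P_le_cC hJ hp⟩, hT hp, rfl⟩, ?_, ?_⟩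
  · rw [Subgroup.card_map_of_injective (Subgroup.subtype_injective _)]
    exact hTc
  · rintro _ ⟨s, hs, rfl⟩ hall
    exact hcT ⟨s, hs⟩ (Subgroup.mem_center_iff.mpr fun t =>
      Subtype.ext (Subtype.ext (hall _ ⟨t, t.2, rfl⟩).symm.eq))

/-- Two subgroups of order 27 of `H` are conjugate in `H`. -/
theorem exists_conj_of_card {A B : Subgroup G} (hA : A ≤ cH z) (hB : B ≤ cH z)
    (hAc : Nat.card A = 27) (hBc : Nat.card B = 27) :
    ∃ h ∈ cH z, ∀ x ∈ A, h * x * h⁻¹ ∈ B := by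
  haveI : Fact (Nat.Prime 3) := ⟨Nat.prime_three⟩
  have hmult : (3 : ℕ) ^ (Nat.card ↥(cH z)).factorization 3 = 27 := by
    rw [card_cH hJ, show (2 ^ 13 * 3 * 887040 : ℕ) = 3 ^ 3 * 807403520 by norm_num,
      Nat.factorization_mul (by norm_num) (by norm_num), Finsupp.add_apply,
      Nat.prime_three.factorization_pow, Finsupp.single_eq_same,
      Nat.factorization_eq_zero_of_not_dvd (by norm_num)]
    norm_num
  obtain ⟨S, hS⟩ : ∃ S : Sylow 3 ↥(cH z), (S : Subgroup ↥(cH z)) = A.subgroupOf (cH z) :=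
    ⟨Sylow.ofCard (A.subgroupOf (cH z)) (by
      rw [Nat.card_congr (Subgroup.subgroupOfEquivOfLe hA).toEquiv, hAc, hmult]), rfl⟩
  obtain ⟨T, hT⟩ : ∃ T : Sylow 3 ↥(cH z), (T : Subgroup ↥(cH z)) = B.subgroupOf (cH z) :=
    ⟨Sylow.ofCard (B.subgroupOf (cH z)) (by
      rw [Nat.card_congr (Subgroup.subgroupOfEquivOfLe hB).toEquiv, hBc, hmult]), rfl⟩
  obtain ⟨n, hn⟩ := MulAction.exists_smul_eq ↥(cH z) S T
  refine ⟨n, n.2, fun x hx => ?_⟩
  have h1 : n * ⟨x, hA hx⟩ * n⁻¹ ∈ (T : Subgroup ↥(cH z)) := by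
    rw [← hn, Sylow.coe_subgroup_smul]
    refine Subgroup.mem_pointwise_smul_iff_inv_smul_mem.mpr ?_
    rw [hS]
    simpa [mul_assoc, Subgroup.mem_subgroupOf] using hx
  rw [hT, Subgroup.mem_subgroupOf] at h1
  exact h1

/-- Elements of `N(P)` outside `C(P)` invert `P`. -/
theorem mul_mem_centP {g n : G} (hg : g ∈ Subgroup.normalizer (P : Set G))
    (hn : n ∈ Subgroup.normalizer (P : Set G)) (hg' : g ∉ Subgroup.centralizer (P : Set G))
    (hn' : n ∉ Subgroup.centralizer (P : Set G)) : g * n ∈ Subgroup.centralizer (P : Set G) := by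
  obtain ⟨q, hq, hq1⟩ : ∃ q ∈ P, q ≠ 1 := by
    refine P.bot_or_exists_ne_one.resolve_left fun hbot => ?_
    have := card_P hJ
    rw [hbot, Subgroup.card_bot] at this
    omega
  haveI : Fact (Nat.Prime 3) := ⟨Nat.prime_three⟩
  have hP : Subgroup.zpowers q = P := Subgroup.eq_of_le_of_card_ge (Subgroup.zpowers_le.mpr hq)
    (by rw [card_P hJ, Nat.card_zpowers, orderOf_eq_prime (pow_three_P hJ hq) hq1])
  have hcent : ∀ x : G, x * q * x⁻¹ = q → x ∈ Subgroup.centralizer (P : Set G) := fun x hx => by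
    refine Subgroup.mem_centralizer_iff.mpr fun p hp => ?_
    rw [SetLike.mem_coe, ← hP, Subgroup.mem_zpowers_iff] at hp
    obtain ⟨m, rfl⟩ := hp
    exact (Commute.zpow_right (mul_inv_eq_iff_eq_mul.mp hx) m).eq.symm
  have hinv : ∀ x ∈ Subgroup.normalizer (P : Set G), x ∉ Subgroup.centralizer (P : Set G) →
      x * q * x⁻¹ = q⁻¹ := by
    intro x hx hx'
    classical
    have h := (Subgroup.mem_normalizer_iff.mp hx q).mp hq
    rw [← hP, mem_zpowers_iff_mem_range_orderOf (x := q),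
      orderOf_eq_prime (pow_three_P hJ hq) hq1] at h
    obtain ⟨i, hi, hie⟩ := Finset.mem_image.mp h
    rw [Finset.mem_range] at hi
    interval_cases i
    · rw [pow_zero, eq_comm, mul_inv_eq_one] at hie
      exact absurd (mul_eq_left.mp hie) hq1
    · rw [pow_one] at hie
      exact absurd (hcent x hie.symm) hx'
    · rw [← hie]
      exact eq_inv_of_mul_eq_one_left (by rw [← pow_succ, pow_three_P hJ hq])
  refine hcent _ ?_
  calc g * n * q * (g * n)⁻¹ = g * (n * q * n⁻¹) * g⁻¹ := by group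
    _ = (g * q * g⁻¹)⁻¹ := by rw [hinv n hn hn']; group
    _ = q := by rw [hinv g hg hg', inv_inv]

/-- An involution fixing only `P` on an odd-order group over `P` inverts it modulo `P`. -/
theorem inverts {t : G} (ht2 : t * t = 1) (htM : t ∈ Subgroup.centralizer (P : Set G))
    {U : Subgroup G} (hU : U ≤ Subgroup.centralizer (P : Set G))
    (hnorm : ∀ u ∈ U, t * u * t⁻¹ ∈ U) (hfix : ∀ u ∈ U, t * u * t⁻¹ = u → u ∈ P) :
    (∀ u ∈ U, t * u * t⁻¹ * u ∈ P) ∧ ∀ u ∈ U, ∀ v ∈ U, u⁻¹ * v⁻¹ * u * v ∈ P := by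
  set R := P.subgroupOf U with hR
  have hcen : ∀ p ∈ P, ∀ u ∈ U, p * u = u * p := fun p hp u hu =>
    Subgroup.mem_centralizer_iff.mp (hU hu) p hp
  haveI hRn : R.Normal := ⟨fun p hp u => by
    have : u * p * u⁻¹ = p := by
      rw [show u * p = p * u from Subtype.ext (hcen _ hp _ u.2).symm, mul_inv_cancel_right]
    rwa [this]⟩
  have htp : ∀ p ∈ P, t * p * t⁻¹ = p := fun p hp => by
    rw [← Subgroup.mem_centralizer_iff.mp htM p hp, mul_inv_cancel_right]
  let f : ↥U →* ↥U :=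
    { toFun := fun u => ⟨t * u * t⁻¹, hnorm u u.2⟩
      map_one' := Subtype.ext (by simp)
      map_mul' := fun u v => Subtype.ext (by simp [mul_assoc]) }
  let φ : (↥U ⧸ R) →* (↥U ⧸ R) := QuotientGroup.map R R f (fun p hp => by
    show t * (p : G) * t⁻¹ ∈ P
    rw [htp (p : G) hp]
    exact hp)
  have hφ : ∀ u : ↥U, φ (u : ↥U ⧸ R) = ((f u : ↥U) : ↥U ⧸ R) := fun u => rfl
  have hi : Function.Involutive φ := by
    intro x
    obtain ⟨u, rfl⟩ := QuotientGroup.mk_surjective x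
    rw [hφ, hφ]
    congr 1
    apply Subtype.ext
    show t * (t * u * t⁻¹) * t⁻¹ = u
    rw [show t⁻¹ = t from inv_eq_of_mul_eq_one_right ht2, ← mul_assoc, ← mul_assoc, ht2, one_mul,
      mul_assoc, ht2, mul_one]
  have hfp : MonoidHom.FixedPointFree φ := by
    intro x hx
    obtain ⟨u, rfl⟩ := QuotientGroup.mk_surjective x
    rw [hφ, QuotientGroup.eq] at hx
    have hp : (t * (u : G) * t⁻¹)⁻¹ * u ∈ P := hx
    set p := (t * (u : G) * t⁻¹)⁻¹ * u with hpd
    have h1 : (u : G) = t * u * t⁻¹ * p := by rw [hpd, mul_inv_cancel_left]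
    have h2 : t * (u : G) * t⁻¹ = u * p := by
      calc t * (u : G) * t⁻¹ = t * (t * u * t⁻¹ * p) * t⁻¹ := by rw [← h1]
        _ = (t * t) * u * (t⁻¹ * t⁻¹) * (t * p * t⁻¹) := by group
        _ = u * p := by
          rw [ht2, htp p hp, ← mul_inv_rev, ht2]
          simp
    have hpp : p * p = 1 := by
      rw [h2] at h1
      have : (u : G) * 1 = u * (p * p) := by rw [mul_one, ← mul_assoc]; exact h1
      exact (mul_left_cancel this).symm
    have hp1 : p = 1 := by
      have h3 := pow_three_P hJ hp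
      rwa [pow_succ, sq, hpp, one_mul] at h3
    rw [hp1, mul_one] at h2
    exact (QuotientGroup.eq_one_iff u).mpr (hfix u u.2 h2)
  refine ⟨fun u hu => ?_, fun u hu v hv => ?_⟩
  · have h := congrFun (hfp.coe_eq_inv_of_involutive hi) ((⟨u, hu⟩ : ↥U) : ↥U ⧸ R)
    rw [hφ] at h
    change ((f ⟨u, hu⟩ : ↥U) : ↥U ⧸ R) = ((⟨u, hu⟩ : ↥U) : ↥U ⧸ R)⁻¹ at h
    rw [← mul_eq_one_iff_eq_inv, ← QuotientGroup.mk_mul, QuotientGroup.eq_one_iff] at h
    exact h
  · have h := (hfp.commute_all_of_involutive hi ((⟨v, hv⟩ : ↥U) : ↥U ⧸ R)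
      ((⟨u, hu⟩ : ↥U) : ↥U ⧸ R)).eq
    rw [← QuotientGroup.mk_mul, ← QuotientGroup.mk_mul, QuotientGroup.eq] at h
    have hh : ((v : G) * u)⁻¹ * (u * v) ∈ P := h
    rw [show u⁻¹ * v⁻¹ * u * v = (v * u)⁻¹ * (u * v) by group]
    exact hh

/-- The centralizer of an involution `a` of the hypothesis has order dividing `3 · 1155` on the odd
part: no odd-order subgroup of `C_G(P) ∩ C_G(a)` over `P` has order divisible by 27. -/
theorem card_dvd_of_le_centralizer {a : G} (ha : a ∈ cC z P) (haz : a ≠ z) (hza : IsConj z a)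
    {D : Subgroup G} (hPD : P ≤ D) (hDM : D ≤ Subgroup.centralizer (P : Set G))
    (hDa : D ≤ Subgroup.centralizer ({a} : Set G)) (hodd : Odd (Nat.card D)) :
    Nat.card D ∣ 3 * 1155 := by
  haveI : Fact (Nat.Prime 3) := ⟨Nat.prime_three⟩
  obtain ⟨g, hg⟩ := isConj_iff.mp hza
  have hmem : ∀ x ∈ Subgroup.centralizer ({a} : Set G), g⁻¹ * x * g ∈ cH z := by
    intro x hx
    have hxa : x * a = a * x := Subgroup.mem_centralizer_singleton_iff.mp hx
    rw [mem_cH, show z = g⁻¹ * a * g by rw [← hg]; group]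
    calc g⁻¹ * x * g * (g⁻¹ * a * g) = g⁻¹ * (x * a) * g := by group
      _ = g⁻¹ * a * g * (g⁻¹ * x * g) := by rw [hxa]; group
  have hmap : ∀ T : Subgroup G, T ≤ D → T.map (MulAut.conj g⁻¹).toMonoidHom ≤ cH z := by
    rintro T hT _ ⟨x, hx, rfl⟩
    simpa [mul_assoc] using hmem x (hDa (hT hx))
  have hdH : Nat.card D ∣ Nat.card ↥(cH z) := by
    have := Subgroup.card_dvd_of_le (hmap D le_rfl)
    rwa [Subgroup.card_map_of_injective (MulAut.conj g⁻¹).injective] at this
  have hd : Nat.card D ∣ 10395 := by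
    refine (Nat.Coprime.pow_right 21 hodd.coprime_two_right).dvd_of_dvd_mul_left
      (hdH.trans (dvd_of_eq ?_))
    rw [card_cH hJ]
    norm_num
  have h27 : ¬ 27 ∣ Nat.card D := by
    intro h
    obtain ⟨T₀⟩ := (inferInstance : Nonempty (Sylow 3 ↥D))
    set T : Subgroup G := (T₀ : Subgroup ↥D).map D.subtype with hTd
    have hT27 : Nat.card T = 27 := by
      rw [hTd, Subgroup.card_map_of_injective (Subgroup.subtype_injective _)]
      obtain ⟨m, hm⟩ := h
      have hm3 : ¬ 3 ∣ m := by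
        intro h3
        have h81 : 81 ∣ Nat.card D := by
          obtain ⟨m', rfl⟩ := h3
          exact ⟨m', by rw [hm]; ring⟩
        exact absurd (h81.trans hd) (by norm_num)
      have hm0 : m ≠ 0 := fun h0 => hm3 (by simp [h0])
      rw [Sylow.card_eq_multiplicity, hm, show (27 : ℕ) = 3 ^ 3 by norm_num,
        Nat.factorization_mul (by norm_num) hm0, Finsupp.add_apply,
        Nat.prime_three.factorization_pow, Finsupp.single_eq_same,
        Nat.factorization_eq_zero_of_not_dvd hm3]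
    have hTD : T ≤ D := Subgroup.map_subtype_le _
    have hPT : P ≤ T := by
      intro p hp
      refine ⟨⟨p, hPD hp⟩, ?_, rfl⟩
      have hn : (P.subgroupOf D).Normal := ⟨fun x hx u => by
        have : u * x * u⁻¹ = x := by
          rw [show u * x = x * u from
            Subtype.ext (Subgroup.mem_centralizer_iff.mp (hDM u.2) _ hx).symm, mul_inv_cancel_right]
        rwa [this]⟩
      have hp3 : IsPGroup 3 (P.subgroupOf D) := IsPGroup.of_card (n := 1) (by
        rw [Nat.card_congr (Subgroup.subgroupOfEquivOfLe hPD).toEquiv, card_P hJ, pow_one])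
      have hsup : IsPGroup 3 ↥((T₀ : Subgroup ↥D) ⊔ P.subgroupOf D) := by
        rw [sup_comm]
        exact IsPGroup.to_sup_of_normal_left hp3 T₀.isPGroup'
      have := T₀.is_maximal' hsup le_sup_left
      exact this ▸ (le_sup_right : P.subgroupOf D ≤ _) (show (⟨p, hPD hp⟩ : ↥D) ∈ P.subgroupOf D from hp)
    obtain ⟨S, hSC, -, hS27, hSP⟩ := exists_sylow hJ
    obtain ⟨h', hh', hhS⟩ := exists_conj_of_card hJ (hmap T hTD) (hSC.trans inf_le_left)
      (by rw [Subgroup.card_map_of_injective (MulAut.conj g⁻¹).injective, hT27]) hS27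
    set k := h' * g⁻¹ with hk
    have hTk : T.map (MulAut.conj k).toMonoidHom = S := by
      refine Subgroup.eq_of_le_of_card_ge ?_ ?_
      · rintro _ ⟨x, hx, rfl⟩
        have := hhS _ ⟨x, hx, rfl⟩
        simpa [hk, mul_assoc] using this
      · rw [Subgroup.card_map_of_injective (MulAut.conj k).injective, hT27, hS27]
    have hkP : P.map (MulAut.conj k).toMonoidHom = P := by
      refine Subgroup.eq_of_le_of_card_ge ?_ ?_
      · rintro _ ⟨p, hp, rfl⟩
        refine hSP _ (hTk ▸ ⟨p, hPT hp, rfl⟩) fun s hs => ?_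
        rw [← hTk] at hs
        obtain ⟨x, hx, rfl⟩ := hs
        exact (show Commute p x from
          Subgroup.mem_centralizer_iff.mp (hDM (hTD hx)) p hp).map (MulAut.conj k).toMonoidHom
      · rw [Subgroup.card_map_of_injective (MulAut.conj k).injective]
    have hkN : k ∈ Subgroup.normalizer (P : Set G) := by
      refine Subgroup.mem_normalizer_iff.mpr fun p => ⟨fun hp => ?_, fun hp => ?_⟩
      · exact hkP.le ⟨p, hp, rfl⟩
      · rw [← hkP] at hp
        obtain ⟨q, hq, hqe⟩ := hp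
        have : q = p := (MulAut.conj k).injective hqe
        exact this ▸ hq
    have hka : k * a * k⁻¹ = z := by
      have hz' : h' * z = z * h' := mem_cH.mp hh'
      calc k * a * k⁻¹ = h' * z * h'⁻¹ := by rw [hk, ← hg]; group
        _ = z := by rw [hz', mul_inv_cancel_right]
    -- some `m ∈ C(P)` has `m a m⁻¹ = z`
    obtain ⟨m, hm, hma⟩ : ∃ m ∈ Subgroup.centralizer (P : Set G), m * a * m⁻¹ = z := by
      by_cases hkc : k ∈ Subgroup.centralizer (P : Set G)
      · exact ⟨k, hkc, hka⟩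
      · obtain ⟨n, hn, hnc⟩ : ∃ n ∈ cM z P, n ∉ Subgroup.centralizer (P : Set G) := by
          by_contra hall
          push Not at hall
          exact hJ.2.2.2.2.2.2.2.1 (le_antisymm (fun n hn => ⟨hn.1, hall n hn⟩)
            (inf_le_inf_left _ (Subgroup.centralizer_le_normalizer ((P : Subgroup G) : Set G))))
        refine ⟨n * k, mul_mem_centP hJ hn.2 hkN hnc hkc, ?_⟩
        calc n * k * a * (n * k)⁻¹ = n * (k * a * k⁻¹) * n⁻¹ := by group
          _ = z := by rw [hka, mem_cH.mp hn.1, mul_inv_cancel_right]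
    have e : m⁻¹ * z * m⁻¹⁻¹ = a := by rw [← hma]; group
    exact haz (by rw [← e]; exact isolated hJ (inv_mem hm) (by rw [e]; exact ha.1))
  obtain ⟨c, hc⟩ := hd
  have h3c : 3 ∣ c := by
    by_contra h3
    have hco : Nat.Coprime 27 c :=
      Nat.Coprime.pow_left 3 (Nat.prime_three.coprime_iff_not_dvd.mpr h3)
    exact h27 (hco.dvd_of_dvd_mul_right ⟨385, hc.symm.trans (by norm_num)⟩)
  obtain ⟨c', rfl⟩ := h3c
  exact ⟨c', by
    have : 3 * (3 * 1155) = 3 * (Nat.card D * c') := by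
      rw [show 3 * (3 * 1155) = 10395 by norm_num, hc]; ring
    exact Nat.eq_of_mul_eq_mul_left (by norm_num) this⟩

/-- A fixed point of `a` in `O` lies in `P`. -/
theorem fixed_le_P {a : G} (ha : a ∈ cC z P) (haz : a ≠ z) (hza : IsConj z a)
    (hzd : z ∈ ⁅cC z P ⊓ Subgroup.centralizer ({a} : Set G),
      cC z P ⊓ Subgroup.centralizer ({a} : Set G)⁆)
    {O : Subgroup G} (hPO : P ≤ O) (hOM : O ≤ Subgroup.centralizer (P : Set G))
    (hodd : Odd (Nat.card O))
    (hnormO : ∀ m ∈ Subgroup.centralizer (P : Set G), ∀ u ∈ O, m * u * m⁻¹ ∈ O)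
    (hinv : ∀ u ∈ O, z * u * z⁻¹ * u ∈ P) (hab : ∀ u ∈ O, ∀ v ∈ O, u⁻¹ * v⁻¹ * u * v ∈ P) :
    ∀ u ∈ O, a * u * a⁻¹ = u → u ∈ P := by
  set D := O ⊓ Subgroup.centralizer ({a} : Set G) with hD
  set W := cC z P ⊓ Subgroup.centralizer ({a} : Set G) with hW
  have hPD : P ≤ D := le_inf hPO fun p hp => Subgroup.mem_centralizer_singleton_iff.mpr
    (Subgroup.mem_centralizer_iff.mp ha.2 p hp)
  have hDodd : Odd (Nat.card D) := hodd.of_dvd_nat (Subgroup.card_dvd_of_le inf_le_left)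
  have hdvd := card_dvd_of_le_centralizer hJ ha haz hza hPD (inf_le_left.trans hOM) inf_le_right hDodd
  set R := P.subgroupOf D with hR
  haveI hRn : R.Normal := ⟨fun p hp u => by
    have : u * p * u⁻¹ = p := by
      rw [show u * p = p * u from
        Subtype.ext (Subgroup.mem_centralizer_iff.mp (hOM u.2.1) _ hp).symm, mul_inv_cancel_right]
    rwa [this]⟩
  have hcyc : IsCyclic (↥D ⧸ R) := by
    letI : CommGroup (↥D ⧸ R) :=
      { (inferInstance : Group (↥D ⧸ R)) with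
        mul_comm := fun x y => by
          obtain ⟨u, rfl⟩ := QuotientGroup.mk_surjective x
          obtain ⟨v, rfl⟩ := QuotientGroup.mk_surjective y
          rw [← QuotientGroup.mk_mul, ← QuotientGroup.mk_mul, QuotientGroup.eq]
          show ((u : G) * v)⁻¹ * (v * u) ∈ P
          rw [show ((u : G) * v)⁻¹ * (v * u) = (v : G)⁻¹ * (u : G)⁻¹ * v * u by group]
          exact hab _ v.2.1 _ u.2.1 }
    haveI : IsZGroup (↥D ⧸ R) := by
      refine IsZGroup.of_squarefree (Squarefree.squarefree_of_dvd ?_ (show Squarefree 1155 from ?_))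
      · refine Nat.dvd_of_mul_dvd_mul_left (k := 3) (by norm_num) ?_
        have hR3 : Nat.card R = 3 := by
          rw [hR, Nat.card_congr (Subgroup.subgroupOfEquivOfLe hPD).toEquiv, card_P hJ]
        rwa [Subgroup.card_eq_card_quotient_mul_card_subgroup R, hR3, mul_comm] at hdvd
      · decide +kernel
    infer_instance
  have hnorm : ∀ w : ↥W, ∀ u ∈ D, (w : G) * u * (w : G)⁻¹ ∈ D := by
    intro w u hu
    refine ⟨hnormO w w.2.1.2 u hu.1, Subgroup.mem_centralizer_singleton_iff.mpr ?_⟩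
    have h1 : Commute (w : G) a := Subgroup.mem_centralizer_singleton_iff.mp w.2.2
    have h2 : Commute u a := Subgroup.mem_centralizer_singleton_iff.mp hu.2
    exact ((h1.mul_left h2).mul_left h1.inv_left).eq
  let θ : ↥W → (↥D ≃* ↥D) := fun w =>
    { toFun := fun u => ⟨w * u * (w : G)⁻¹, hnorm w u u.2⟩
      invFun := fun u => ⟨(w : G)⁻¹ * u * w, by simpa using hnorm w⁻¹ u u.2⟩
      left_inv := fun u => Subtype.ext (by simp [mul_assoc])
      right_inv := fun u => Subtype.ext (by simp [mul_assoc])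
      map_mul' := fun u v => Subtype.ext (by simp [mul_assoc]) }
  have hθR : ∀ w : ↥W, R.map (θ w).toMonoidHom = R := by
    intro w
    have hfix : ∀ p : ↥D, p ∈ R → θ w p = p := fun p hp => Subtype.ext (by
      show (w : G) * p * (w : G)⁻¹ = p
      rw [← Subgroup.mem_centralizer_iff.mp w.2.1.2 p hp, mul_inv_cancel_right])
    ext p
    constructor
    · rintro ⟨q, hq, rfl⟩
      exact (hfix q hq).symm ▸ hq
    · exact fun hp => ⟨p, hp, hfix p hp⟩
  let ψ : ↥W →* MulAut (↥D ⧸ R) :=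
    MonoidHom.mk' (fun w => QuotientGroup.congr R R (θ w) (hθR w)) (fun v w => by
      apply MulEquiv.ext
      intro x
      obtain ⟨u, rfl⟩ := QuotientGroup.mk_surjective x
      apply congrArg (QuotientGroup.mk (s := R))
      apply Subtype.ext
      show ((v * w : ↥W) : G) * (u : G) * ((v * w : ↥W) : G)⁻¹ = _
      simp [θ, mul_assoc])
  have hcommAut : ∀ x y : MulAut (↥D ⧸ R), x * y = y * x := fun x y =>
    (IsCyclic.mulAutMulEquiv (↥D ⧸ R)).injective (by rw [map_mul, map_mul, mul_comm])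
  intro u hu hua
  have huD : u ∈ D := ⟨hu, Subgroup.mem_centralizer_singleton_iff.mpr
    (mul_inv_eq_iff_eq_mul.mp hua).symm⟩
  rw [← Subgroup.map_subtype_commutator] at hzd
  obtain ⟨w, hw, hwz⟩ := hzd
  have hle : commutator ↥W ≤ ψ.ker := by
    rw [commutator_def, Subgroup.commutator_le]
    intro v _ w _
    rw [MonoidHom.mem_ker, map_commutatorElement, commutatorElement_eq_one_iff_mul_comm]
    exact hcommAut _ _
  have h1 := DFunLike.congr_fun (MonoidHom.mem_ker.mp (hle hw)) ((⟨u, huD⟩ : ↥D) : ↥D ⧸ R)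
  change (((θ w) ⟨u, huD⟩ : ↥D) : ↥D ⧸ R) = _ at h1
  rw [MulAut.one_apply, QuotientGroup.eq] at h1
  have h2 : ((w : G) * u * (w : G)⁻¹)⁻¹ * u ∈ P := h1
  rw [show (w : G) = z from hwz] at h2
  have h3 : u * u ∈ P := by
    have h := mul_mem (inv_mem h2) (hinv u hu)
    rw [show (((z * u * z⁻¹)⁻¹ * u)⁻¹) * (z * u * z⁻¹ * u) = u⁻¹ * ((z * u * z⁻¹) * (z * u * z⁻¹)) * u
      by group] at h
    have h' : (z * u * z⁻¹) * (z * u * z⁻¹) = u * (u⁻¹ * ((z * u * z⁻¹) * (z * u * z⁻¹)) * u) * u⁻¹ := by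
      group
    rw [← Subgroup.mem_centralizer_iff.mp (hOM hu) _ h, mul_inv_cancel_right] at h'
    have h4 : z * (u * u) * z⁻¹ ∈ P := by
      rw [show z * (u * u) * z⁻¹ = z * u * z⁻¹ * (z * u * z⁻¹) by group, h']
      exact h
    have h5 : z * (u * u) * z⁻¹ * z = z * (z * (u * u) * z⁻¹) :=
      Subgroup.mem_centralizer_iff.mp (z_mem_centP hJ) _ h4
    rw [inv_mul_cancel_right] at h5
    rw [mul_left_cancel h5]
    exact h4
  obtain ⟨m, hm⟩ := hodd
  have hpow : u ^ (2 * m + 1) = 1 := by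
    rw [← hm]
    exact congrArg Subtype.val (pow_card_eq_one' (x := (⟨u, hu⟩ : ↥O)))
  have : u = ((u * u) ^ m)⁻¹ := by
    rw [eq_inv_iff_mul_eq_one, ← sq, ← pow_mul, ← pow_succ', hpow]
  rw [this]
  exact inv_mem (pow_mem h3 m)

/-- `O(C_G(P))`, as a subgroup of `G`, centralizes `z`. -/
theorem oddCore_le_cH (hw : HasWitness z P) :
    (pPrimeCore 2 ↥(Subgroup.centralizer (P : Set G))).map
      (Subgroup.centralizer (P : Set G)).subtype ≤ cH z := by
  obtain ⟨ρ, hρs, hρ⟩ := exists_rho hJ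
  have hperf := commutator_cC_eq hJ hw
  obtain ⟨a, ha, haz, hza, hzd⟩ := hw
  set M := Subgroup.centralizer (P : Set G) with hM
  set O := (pPrimeCore 2 ↥M).map M.subtype with hO
  have hOM : O ≤ M := Subgroup.map_subtype_le _
  have hodd : Odd (Nat.card O) := by
    rw [hO, Subgroup.card_map_of_injective (Subgroup.subtype_injective _)]
    exact Nat.coprime_two_right.mp CfsgLib.PCore.pPrimeCore_coprime
  have hnormO : ∀ m ∈ M, ∀ u ∈ O, m * u * m⁻¹ ∈ O := by
    rintro m hm _ ⟨u, hu, rfl⟩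
    refine ⟨⟨m, hm⟩ * u * ⟨m, hm⟩⁻¹, ?_, rfl⟩
    exact (inferInstance : (pPrimeCore 2 ↥M).Normal).conj_mem u hu _
  have hPO : P ≤ O := by
    intro p hp
    refine ⟨⟨p, (P_le_cC hJ hp).2⟩, ?_, rfl⟩
    refine CfsgLib.PCore.le_pPrimeCore (N := P.subgroupOf M) ⟨fun x hx m => ?_⟩ ?_ hp
    · have : m * x * m⁻¹ = x := by
        rw [show m * x = x * m from
          Subtype.ext (Subgroup.mem_centralizer_iff.mp m.2 _ hx).symm, mul_inv_cancel_right]
      rwa [this]
    · rw [Nat.card_congr (Subgroup.subgroupOfEquivOfLe fun p hp => (P_le_cC hJ hp).2).toEquiv,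
        card_P hJ]
      norm_num
  -- `C_O(z) = P`
  have hfixz : ∀ u ∈ O, z * u * z⁻¹ = u → u ∈ P := by
    intro u hu huz
    have huC : u ∈ cC z P := ⟨mem_cH.mpr (mul_inv_eq_iff_eq_mul.mp huz).symm, hOM hu⟩
    set R := O.subgroupOf (cC z P) with hR
    have hRn : R.Normal := ⟨fun x hx c => hnormO c c.2.2 x hx⟩
    have hbot : R.map ρ = ⊥ := by
      haveI := CfsgLib.Golay.isSimpleGroup_sporM22
      refine (hRn.map ρ hρs).eq_bot_or_eq_top.resolve_right fun htop => ?_
      have hdvd : Nat.card ↥Spor.M22 ∣ Nat.card O := by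
        rw [← Subgroup.card_top (G := ↥Spor.M22), ← htop]
        refine (Subgroup.card_map_dvd R ρ).trans ?_
        exact Subgroup.card_dvd_of_injective
          ({ toFun := fun x => ⟨((x : ↥(cC z P)) : G), x.2⟩, map_one' := rfl,
             map_mul' := fun _ _ => rfl } : ↥R →* ↥O)
          fun x y h => Subtype.ext (Subtype.ext (congrArg Subtype.val h :))
      have := hodd.of_dvd_nat hdvd
      rw [CfsgLib.Golay.natCard_sporM22] at this
      exact absurd this (by decide)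
    have hker : ρ ⟨u, huC⟩ = 1 := Subgroup.mem_bot.mp (hbot ▸ Subgroup.mem_map_of_mem ρ
      (show (⟨u, huC⟩ : ↥(cC z P)) ∈ R from hu))
    exact mem_P_of_pow hJ ((hρ _).mp hker) hodd
      (congrArg Subtype.val (pow_card_eq_one' (x := (⟨u, hu⟩ : ↥O))))
  have hz2 : z * z = 1 := (extraAt hJ).sq_one
  obtain ⟨hinvz, hab⟩ := inverts hJ hz2 (z_mem_centP hJ) hOM
    (fun u hu => hnormO z (z_mem_centP hJ) u hu) hfixz
  have ha2 : orderOf a = 2 := by
    obtain ⟨g, rfl⟩ := isConj_iff.mp hza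
    rw [← MulAut.conj_apply, MulEquiv.orderOf_eq, hJ.1]
  have haa : a * a = 1 := by rw [← sq, ← ha2, pow_orderOf_eq_one]
  obtain ⟨hinva, -⟩ := inverts hJ haa ha.2 hOM (fun u hu => hnormO a ha.2 u hu)
    (fixed_le_P hJ ha haz hza hzd hPO hOM hodd hnormO hinvz hab)
  -- `az` centralizes `O`
  have hazO : ∀ u ∈ O, (a * z) * u = u * (a * z) := by
    intro u hu
    obtain ⟨p₁, hp₁, e₁⟩ : ∃ p ∈ P, z * u * z⁻¹ = p * u⁻¹ :=
      ⟨_, hinvz u hu, by rw [mul_inv_cancel_right]⟩
    obtain ⟨p₂, hp₂, e₂⟩ : ∃ p ∈ P, a * u * a⁻¹ = p * u⁻¹ :=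
      ⟨_, hinva u hu, by rw [mul_inv_cancel_right]⟩
    have hcp : ∀ p ∈ P, p * u = u * p := fun p hp => Subgroup.mem_centralizer_iff.mp (hOM hu) p hp
    have hzp : ∀ p ∈ P, z * p * z⁻¹ = p := fun p hp => by
      rw [← Subgroup.mem_centralizer_iff.mp (z_mem_centP hJ) p hp, mul_inv_cancel_right]
    have hap : ∀ p ∈ P, a * p * a⁻¹ = p := fun p hp => by
      rw [← Subgroup.mem_centralizer_iff.mp ha.2 p hp, mul_inv_cancel_right]
    set p := p₁ * p₂⁻¹ with hpd
    have hp : p ∈ P := mul_mem hp₁ (inv_mem hp₂)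
    have e3 : (a * z) * u * (a * z)⁻¹ = u * p := by
      calc (a * z) * u * (a * z)⁻¹ = a * (z * u * z⁻¹) * a⁻¹ := by group
        _ = (a * p₁ * a⁻¹) * (a * u * a⁻¹)⁻¹ := by rw [e₁]; group
        _ = p₁ * u * p₂⁻¹ := by rw [hap p₁ hp₁, e₂]; group
        _ = u * p := by rw [hcp p₁ hp₁, mul_assoc]
    have hpfix : (a * z) * p * (a * z)⁻¹ = p := by
      calc (a * z) * p * (a * z)⁻¹ = a * (z * p * z⁻¹) * a⁻¹ := by group
        _ = p := by rw [hzp p hp, hap p hp]
    have hsq : (a * z) * (a * z) = 1 := by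
      rw [mul_assoc, ← mul_assoc z a z, ← mem_cH.mp ha.1, mul_assoc a z z, hz2, mul_one, haa]
    have e4 : u = u * p * p := by
      calc u = ((a * z) * (a * z)) * u * ((a * z) * (a * z))⁻¹ := by rw [hsq]; simp
        _ = (a * z) * ((a * z) * u * (a * z)⁻¹) * (a * z)⁻¹ := by group
        _ = (a * z) * (u * p) * (a * z)⁻¹ := by rw [e3]
        _ = ((a * z) * u * (a * z)⁻¹) * ((a * z) * p * (a * z)⁻¹) := by group
        _ = u * p * p := by rw [e3, hpfix]
    have hpp : p * p = 1 := by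
      have : u * 1 = u * (p * p) := by rw [mul_one, ← mul_assoc]; exact e4
      exact (mul_left_cancel this).symm
    have hp1 : p = 1 := by
      have h3 := pow_three_P hJ hp
      rwa [pow_succ, sq, hpp, one_mul] at h3
    rw [hp1, mul_one] at e3
    exact mul_inv_eq_iff_eq_mul.mp e3
  -- so `C` centralizes `O`
  set K := (Subgroup.centralizer (O : Set G)).subgroupOf (cC z P) with hK
  have hKn : K.Normal := ⟨fun x hx c => by
    refine Subgroup.mem_centralizer_iff.mpr fun u hu => ?_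
    show u * ((c : G) * x * (c : G)⁻¹) = (c : G) * x * (c : G)⁻¹ * u
    have h1 : (c : G)⁻¹ * u * c ∈ O := by
      simpa using hnormO _ (inv_mem c.2.2) u hu
    have h2 : (c : G)⁻¹ * u * c * (x : G) = (x : G) * ((c : G)⁻¹ * u * c) :=
      Subgroup.mem_centralizer_iff.mp hx _ h1
    calc u * ((c : G) * x * (c : G)⁻¹) = c * (((c : G)⁻¹ * u * c) * x) * (c : G)⁻¹ := by group
      _ = (c : G) * x * (c : G)⁻¹ * u := by rw [h2]; group⟩
  have hazK : (⟨a * z, mul_mem ha (z_mem_cC hJ)⟩ : ↥(cC z P)) ∈ K :=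
    Subgroup.mem_centralizer_iff.mpr fun u hu => (hazO u hu).symm
  have htop : K.map ρ = ⊤ := by
    haveI := CfsgLib.Golay.isSimpleGroup_sporM22
    refine (hKn.map ρ hρs).eq_bot_or_eq_top.resolve_left fun hbot => ?_
    have h1 : ρ ⟨a * z, mul_mem ha (z_mem_cC hJ)⟩ = 1 :=
      Subgroup.mem_bot.mp (hbot ▸ Subgroup.mem_map_of_mem ρ hazK)
    have hsq : (a * z) ^ 2 = 1 := by
      rw [(show Commute a z from mem_cH.mp ha.1).mul_pow, sq, sq, haa, hz2, one_mul]
    rcases one_or_z_of_sq hJ ((hρ _).mp h1) hsq with e | e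
    · exact haz (by rw [mul_eq_one_iff_eq_inv.mp e, inv_eq_of_mul_eq_one_right hz2])
    · rw [mul_eq_right] at e
      rw [e, orderOf_one] at ha2
      omega
  have hzK : z ∈ Subgroup.centralizer (O : Set G) := by
    have hall : commutator ↥(cC z P) ≤ K := by
      rw [commutator_def, Subgroup.commutator_le]
      intro v _ w _
      obtain ⟨v', hv', ev⟩ : ρ v ∈ K.map ρ := htop ▸ Subgroup.mem_top _
      obtain ⟨w', hw', ew⟩ : ρ w ∈ K.map ρ := htop ▸ Subgroup.mem_top _
      have hcv : ∀ g, v'⁻¹ * v * g = g * (v'⁻¹ * v) := fun g => Subtype.ext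
        (commute_ker hJ ((hρ (v'⁻¹ * v)).mp (by rw [map_mul, map_inv, ev, inv_mul_cancel])) g.2).eq
      have hcw : ∀ g, w'⁻¹ * w * g = g * (w'⁻¹ * w) := fun g => Subtype.ext
        (commute_ker hJ ((hρ (w'⁻¹ * w)).mp (by rw [map_mul, map_inv, ew, inv_mul_cancel])) g.2).eq
      have e : ⁅v, w⁆ = ⁅v', w'⁆ := by
        have key : ∀ x y : ↥(cC z P), (∀ g, x * g = g * x) → (∀ g, y * g = g * y) →
            ⁅v' * x, w' * y⁆ = ⁅v', w'⁆ := by
          intro x y hx hy
          rw [commutatorElement_def, commutatorElement_def]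
          calc v' * x * (w' * y) * (v' * x)⁻¹ * (w' * y)⁻¹
              = v' * (x * (w' * y)) * x⁻¹ * v'⁻¹ * (y⁻¹ * w'⁻¹) := by group
            _ = v' * w' * (y * v'⁻¹) * (y⁻¹ * w'⁻¹) := by rw [hx]; group
            _ = v' * w' * v'⁻¹ * w'⁻¹ := by rw [hy]; group
        simpa using key _ _ hcv hcw
      rw [e, commutatorElement_def]
      exact mul_mem (mul_mem (mul_mem hv' hw') (inv_mem hv')) (inv_mem hw')
    have hzC' : z ∈ (commutator ↥(cC z P)).map (cC z P).subtype := by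
      rw [Subgroup.map_subtype_commutator, hperf]
      exact z_mem_cC hJ
    obtain ⟨c, hc, hcz⟩ := hzC'
    have := hall hc
    rw [hK, Subgroup.mem_subgroupOf, show (c : G) = z from hcz] at this
    exact this
  exact fun u hu => mem_cH.mpr (Subgroup.mem_centralizer_iff.mp hzK u hu)

/-- `N_G(P) ≤ H`. -/
theorem normalizer_le (hw : HasWitness z P) :
    Subgroup.normalizer (P : Set G) ≤ cH z := by
  have hO := oddCore_le_cH hJ hw
  have hM : Subgroup.centralizer (P : Set G) ≤ cH z := by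
    intro g hg
    have h1 : g * z * g⁻¹ * z⁻¹ ∈ cH z :=
      hO ⟨_, inZStar_z hJ ⟨g, hg⟩, rfl⟩
    have h2 : g * z * g⁻¹ = z := by
      refine isolated hJ hg ?_
      simpa using mul_mem h1 (z_mem_cC hJ).1
    exact mem_cH.mpr (mul_inv_eq_iff_eq_mul.mp h2)
  intro g hg
  by_cases hgc : g ∈ Subgroup.centralizer (P : Set G)
  · exact hM hgc
  · obtain ⟨n, hn, hnc⟩ : ∃ n ∈ cM z P, n ∉ Subgroup.centralizer (P : Set G) := by
      by_contra hall
      push Not at hall
      exact hJ.2.2.2.2.2.2.2.1 (le_antisymm (fun n hn => ⟨hn.1, hall n hn⟩)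
        (inf_le_inf_left _ (Subgroup.centralizer_le_normalizer ((P : Subgroup G) : Set G))))
    simpa using mul_mem (hM (mul_mem_centP hJ hg hn.2 hgc hnc)) (inv_mem hn.1)

/-- `C_H(P)` is the perfect six-fold cover of `M22`, and `N_G(P) ≤ H`. -/
theorem sixFold (hw : HasWitness z P) :
    ⁅cC z P, cC z P⁆ = cC z P ∧ IsCyclic ↥(Subgroup.center ↥(cC z P)) ∧
      Nat.card ↥(Subgroup.center ↥(cC z P)) = 6 ∧
      Cfsg.Spor.IsoM22 (↥(cC z P) ⧸ Subgroup.center ↥(cC z P)) ∧
      Subgroup.normalizer (P : Set G) ≤ cH z := by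
  obtain ⟨ρ, hρs, hρ⟩ := exists_rho hJ
  have hc := center_cC_eq hJ hρs hρ
  obtain ⟨hcyc, h6⟩ := card_ker_rho hJ hρ
  refine ⟨commutator_cC_eq hJ hw, ?_, ?_, ?_, normalizer_le hJ hw⟩
  · rw [hc]; exact hcyc
  · rw [hc]; exact h6
  · exact ⟨(QuotientGroup.quotientMulEquivOfEq hc).trans
      (QuotientGroup.quotientKerEquivOfSurjective ρ hρs)⟩

end CfsgLib.J4Type86
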