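import Cfsg.Agent.Lib.J4Type86.SixFold
import Cfsg.Agent.Lib.MathieuTwentyTwo.ModelCounts

/-!
Janko-four type: a group has one class of elements of order three, given a witness for the six-fold cover.
-/

set_option autoImplicit false

namespace CfsgLib.J4Type86.ThreeClass

open Cfsg

variable {G : Type*} [Group G] [Finite G] {z : G} {P : Subgroup G}
  (hJ : IsOfJankoFourTypeWith z P)
include hJ

theorem zpowers_eq_P {p : G} (hp : p ∈ P) (hp1 : p ≠ 1) : Subgroup.zpowers p = P := by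
  haveI : Fact (Nat.Prime 3) := ⟨Nat.prime_three⟩
  exact Subgroup.eq_of_le_of_card_ge (Subgroup.zpowers_le.mpr hp)
    (by rw [card_P hJ, Nat.card_zpowers, orderOf_eq_prime (pow_three_P hJ hp) hp1])

theorem mem_normalizer_P {p n : G} (hp : p ∈ P) (hp1 : p ≠ 1) (hn : n * p * n⁻¹ ∈ P) :
    n ∈ Subgroup.normalizer (P : Set G) := by
  refine Subgroup.mem_normalizer_fintype fun q hq => ?_
  rw [SetLike.mem_coe, ← zpowers_eq_P hJ hp hp1, Subgroup.mem_zpowers_iff] at hq
  obtain ⟨i, rfl⟩ := hq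
  rw [← conj_zpow]
  exact zpow_mem hn i

theorem commute_P {c q : G} (hc : c ∈ cC z P) (hq : q ∈ P) : Commute q c :=
  Subgroup.mem_centralizer_iff.mp hc.2 q hq

/-- A Sylow `3`-subgroup of `C` is one of `G`. -/
theorem exists_sylow_G (hNP : Subgroup.normalizer (P : Set G) ≤ cH z) :
    ∃ S : Sylow 3 G, (S : Subgroup G) ≤ cC z P ∧ P ≤ S ∧ Nat.card S = 27 ∧
      ∀ s ∈ (S : Subgroup G), (∀ t ∈ (S : Subgroup G), Commute s t) → s ∈ P := by
  haveI : Fact (Nat.Prime 3) := ⟨Nat.prime_three⟩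
  obtain ⟨S, hSC, hPS, h27, hcen⟩ := exists_sylow hJ
  have hNS : Subgroup.normalizer (S : Set G) ≤ cH z := by
    intro n hn
    obtain ⟨p, hp, hp1⟩ := P.bot_or_exists_ne_one.resolve_left fun hbot => by
      have := card_P hJ
      rw [hbot, Subgroup.card_bot] at this
      omega
    refine hNP (mem_normalizer_P hJ hp hp1 (hcen _ ((Subgroup.mem_normalizer_iff.mp hn p).mp (hPS hp))
      fun t ht => ?_))
    have ht' : n⁻¹ * t * n ∈ S := (Subgroup.mem_normalizer_iff''.mp hn t).mp ht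
    have hc : Commute p (n⁻¹ * t * n) := commute_P hJ (hSC ht') hp
    have := hc.map (MulAut.conj n).toMonoidHom
    simpa [mul_assoc] using this
  have h81 : ¬ 3 ^ 4 ∣ Nat.card G := fun h => by
    have := (Sylow.prime_pow_dvd_card_normalizer h (show Nat.card S = 3 ^ 3 by rw [h27]; norm_num)).trans
      (Subgroup.card_dvd_of_le hNS)
    rw [card_cH hJ] at this
    norm_num at this
  have hfac : (Nat.card G).factorization 3 = 3 := by
    refine le_antisymm (Nat.lt_succ_iff.mp (lt_of_not_ge fun h =>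
      h81 ((Nat.prime_three.pow_dvd_iff_le_factorization Nat.card_pos.ne').mpr h))) ?_
    refine (Nat.prime_three.pow_dvd_iff_le_factorization Nat.card_pos.ne').mp ?_
    rw [show (3 : ℕ) ^ 3 = Nat.card S by rw [h27]; norm_num]
    exact Subgroup.card_subgroup_dvd_card S
  exact ⟨Sylow.ofCard S (by rw [h27, hfac]; norm_num), hSC, hPS, h27, hcen⟩

/-- An element outside `P` of the Sylow subgroup is conjugate to its products with `P`. -/
theorem isConj_mul {S : Subgroup G} (hSC : S ≤ cC z P) (hPS : P ≤ S) (h27 : Nat.card S = 27)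
    (hcen : ∀ s ∈ S, (∀ t ∈ S, Commute s t) → s ∈ P) {s : G} (hs : s ∈ S) (hsP : s ∉ P) {q : G} (hq : q ∈ P) :
    IsConj s (q * s) := by
  haveI : Fact (Nat.Prime 3) := ⟨Nat.prime_three⟩
  haveI hn : (P.subgroupOf S).Normal := ⟨fun p hp u => by
    have hc : Commute (p : G) u := commute_P hJ (hSC u.2) hp
    show (u : G) * p * (u : G)⁻¹ ∈ P
    rw [← hc.eq, mul_inv_cancel_right]
    exact hp⟩
  have hq9 : Nat.card (S ⧸ P.subgroupOf S) = 3 ^ 2 := by
    have h := (P.subgroupOf S).card_eq_card_quotient_mul_card_subgroup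
    rw [Nat.card_congr (Subgroup.subgroupOfEquivOfLe hPS).toEquiv, card_P hJ, h27] at h
    omega
  obtain ⟨t, ht, hts⟩ : ∃ t ∈ S, ¬ Commute s t := by
    by_contra hall
    push Not at hall
    exact hsP (hcen s hs hall)
  set d := t * s * t⁻¹ * s⁻¹ with hd
  have hdP : d ∈ P := by
    have h := IsPGroup.isMulCommutative_of_card_eq_prime_sq hq9
    have h' := h.is_comm.comm ((⟨t, ht⟩ : S) : S ⧸ P.subgroupOf S) ((⟨s, hs⟩ : S) : S ⧸ P.subgroupOf S)
    rw [← QuotientGroup.mk_mul, ← QuotientGroup.mk_mul, QuotientGroup.eq, Subgroup.mem_subgroupOf] at h'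
    have h2 : (t * s)⁻¹ * (s * t) ∈ P := h'
    have e : s * t * s⁻¹ * t⁻¹ = (s * t) * ((t * s)⁻¹ * (s * t)) * (s * t)⁻¹ := by group
    rw [← (commute_P hJ (hSC (mul_mem hs ht)) h2).eq, mul_inv_cancel_right] at e
    rw [show d = (s * t * s⁻¹ * t⁻¹)⁻¹ by rw [hd]; group, e]
    exact inv_mem h2
  have hd1 : d ≠ 1 := fun h => hts (mul_inv_eq_iff_eq_mul.mp (mul_inv_eq_one.mp h)).symm
  have key : ∀ n : ℕ, IsConj s (d ^ n * s) := by
    intro n
    induction n with
    | zero => rw [pow_zero, one_mul]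
    | succ n ih =>
      refine ih.trans (isConj_iff.mpr ⟨t, ?_⟩)
      calc t * (d ^ n * s) * t⁻¹ = (t * d ^ n) * s * t⁻¹ := by group
        _ = (d ^ n * t) * s * t⁻¹ := by rw [(commute_P hJ (hSC ht) (pow_mem hdP n)).eq]
        _ = d ^ n * d * s := by rw [hd]; group
        _ = d ^ (n + 1) * s := by rw [← pow_succ]
  rw [← zpowers_eq_P hJ hdP hd1, ← mem_powers_iff_mem_zpowers, Submonoid.mem_powers_iff] at hq
  obtain ⟨n, rfl⟩ := hq
  exact key n

/-- One class of elements of order three. -/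
theorem isConj_three (hw : HasWitness z P) :
    ∀ x y : G, orderOf x = 3 → orderOf y = 3 → IsConj x y := by
  haveI : Fact (Nat.Prime 3) := ⟨Nat.prime_three⟩
  have hNP := normalizer_le hJ hw
  obtain ⟨S, hSC, hPS, h27, hcen⟩ := exists_sylow_G hJ hNP
  obtain ⟨ρ, hρs, hρ⟩ := exists_rho hJ
  obtain ⟨m, -, -, hm, -⟩ := CfsgLib.MathieuTwentyTwo.Model.three_data
  -- into the Sylow subgroup
  have hS : ∀ x : G, orderOf x = 3 → ∃ s ∈ (S : Subgroup G), IsConj x s ∧ orderOf s = 3 := by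
    intro x hx
    obtain ⟨T, hT⟩ := (IsPGroup.of_card (p := 3) (n := 1)
      (by rw [Nat.card_zpowers, hx]; norm_num : Nat.card (Subgroup.zpowers x) = 3 ^ 1)).exists_le_sylow
    obtain ⟨u, hu⟩ := MulAction.exists_smul_eq G T S
    refine ⟨u * x * u⁻¹, ?_, isConj_iff.mpr ⟨u, rfl⟩,
      (MulEquiv.orderOf_eq (MulAut.conj u) x).trans hx⟩
    rw [← hu, Sylow.coe_subgroup_smul]
    exact ⟨x, hT (Subgroup.mem_zpowers x), rfl⟩
  -- outside `P`
  have hout : ∀ x ∈ (S : Subgroup G), ∀ y ∈ (S : Subgroup G), orderOf x = 3 → orderOf y = 3 → x ∉ P → y ∉ P →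
      IsConj x y := by
    intro x hxS y hyS hx hy hxP hyP
    have hord : ∀ w : G, ∀ hwC : w ∈ cC z P, orderOf w = 3 → w ∉ P → orderOf (ρ ⟨w, hwC⟩) = 3 := by
      intro w hwC hw3 hwP
      refine orderOf_eq_prime ?_ fun h => hwP ?_
      · rw [← map_pow, show (⟨w, hwC⟩ : ↥(cC z P)) ^ 3 = 1 from Subtype.ext (by
          show w ^ 3 = 1
          rw [← hw3]; exact pow_orderOf_eq_one w), map_one]
      · exact mem_P_of_pow hJ ((hρ _).mp h) (n := 3) (by decide) (hw3 ▸ pow_orderOf_eq_one w)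
    obtain ⟨v, hv⟩ := isConj_iff.mp
      (((hm _ (hord x (hSC hxS) hx hxP)).symm).trans (hm _ (hord y (hSC hyS) hy hyP)))
    obtain ⟨⟨c, hc⟩, rfl⟩ := hρs v
    have hcx : c * x * c⁻¹ ∈ cC z P := mul_mem (mul_mem hc (hSC hxS)) (inv_mem hc)
    have h1 : ρ (⟨y, hSC hyS⟩⁻¹ * ⟨c * x * c⁻¹, hcx⟩) = 1 := by
      rw [map_mul, show (⟨c * x * c⁻¹, hcx⟩ : ↥(cC z P)) = ⟨c, hc⟩ * ⟨x, hSC hxS⟩ * ⟨c, hc⟩⁻¹ from
        Subtype.ext rfl, map_mul, map_mul, map_inv, map_inv, hv, inv_mul_cancel]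
    have hk := (hρ _).mp h1
    set k := y⁻¹ * (c * x * c⁻¹) with hkd
    have hkc : Commute y k := (commute_ker hJ hk (hSC hyS)).symm
    have hy3 : y ^ 3 = 1 := hy ▸ pow_orderOf_eq_one y
    have hk3 : k ^ 3 = 1 := by
      have e : (y * k) ^ 3 = 1 := by
        rw [hkd, mul_inv_cancel_left, conj_pow, ← hx, pow_orderOf_eq_one]; group
      rwa [hkc.mul_pow, hy3, one_mul] at e
    have hkP : k ∈ P := mem_P_of_pow hJ hk (n := 3) (by decide) hk3
    have h2 : IsConj x (k * y) := isConj_iff.mpr ⟨c, by rw [← hkc.eq, hkd, mul_inv_cancel_left]⟩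
    exact h2.trans (isConj_mul hJ hSC hPS h27 hcen hyS hyP hkP).symm
  -- inside `P`
  have hin : ∀ x ∈ P, ∀ y ∈ P, x ≠ 1 → y ≠ 1 → IsConj x y := by
    intro x hx y hy hx1 hy1
    obtain ⟨n, hn, hnc⟩ : ∃ n ∈ cM z P, n ∉ Subgroup.centralizer (P : Set G) := by
      by_contra hall
      push Not at hall
      exact hJ.2.2.2.2.2.2.2.1 (le_antisymm (fun n hn => ⟨hn.1, hall n hn⟩)
        (inf_le_inf_left _ (Subgroup.centralizer_le_normalizer ((P : Subgroup G) : Set G))))
    have hnx : n * x * n⁻¹ ∈ P := (Subgroup.mem_normalizer_iff.mp hn.2 x).mp hx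
    have hne : n * x * n⁻¹ ≠ x := by
      refine fun e => hnc (Subgroup.mem_centralizer_iff.mpr fun p hp => ?_)
      rw [SetLike.mem_coe, ← zpowers_eq_P hJ hx hx1, Subgroup.mem_zpowers_iff] at hp
      obtain ⟨i, rfl⟩ := hp
      exact ((show Commute n x from mul_inv_eq_iff_eq_mul.mp e).zpow_right i).eq.symm
    rw [← zpowers_eq_P hJ hx hx1, ← mem_powers_iff_mem_zpowers, Submonoid.mem_powers_iff] at hy hnx
    obtain ⟨i, rfl⟩ := hy
    obtain ⟨j, hj⟩ := hnx
    have hx3 := pow_three_P hJ hx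
    rw [← Nat.mod_add_div i 3, pow_add, pow_mul, hx3, one_pow, mul_one] at hy1 ⊢
    rw [← Nat.mod_add_div j 3, pow_add, pow_mul, hx3, one_pow, mul_one] at hj
    have := Nat.mod_lt i (by norm_num : 0 < 3)
    have := Nat.mod_lt j (by norm_num : 0 < 3)
    generalize i % 3 = i' at *
    generalize j % 3 = j' at *
    interval_cases i' <;> interval_cases j' <;>
      first
        | exact absurd (pow_zero x) hy1
        | exact absurd (conj_eq_one_iff.mp (hj.symm.trans (pow_zero x))) hx1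
        | exact absurd (hj.symm.trans (pow_one x)) hne
        | (rw [pow_one])
        | exact isConj_iff.mpr ⟨n, hj.symm⟩
  -- the link
  obtain ⟨a, haC, haz, hza, -⟩ := hw
  obtain ⟨g, hga⟩ := isConj_iff.mp hza
  obtain ⟨p, hp, hp1⟩ := P.bot_or_exists_ne_one.resolve_left fun hbot => by
    have := card_P hJ
    rw [hbot, Subgroup.card_bot] at this
    omega
  obtain ⟨o, hoS, hoP, hpo⟩ : ∃ o ∈ (S : Subgroup G), o ∉ P ∧ IsConj p o := by
    have hp3 : orderOf p = 3 := orderOf_eq_prime (pow_three_P hJ hp) hp1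
    set p' := g⁻¹ * p * g with hp'
    have hp'H : p' ∈ cH z := by
      have hc : Commute p a := commute_P hJ haC hp
      rw [mem_cH, hp', show z = g⁻¹ * a * g by rw [← hga]; group]
      calc g⁻¹ * p * g * (g⁻¹ * a * g) = g⁻¹ * (p * a) * g := by group
        _ = g⁻¹ * (a * p) * g := by rw [hc.eq]
        _ = g⁻¹ * a * g * (g⁻¹ * p * g) := by group
    have hp'3 : orderOf p' = 3 := by
      rw [hp', show g⁻¹ * p * g = MulAut.conj g⁻¹ p by simp, MulEquiv.orderOf_eq, hp3]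
    obtain ⟨T, hT⟩ := (IsPGroup.of_card (p := 3) (n := 1) (by
      rw [Nat.card_congr (Subgroup.subgroupOfEquivOfLe (Subgroup.zpowers_le.mpr hp'H)).toEquiv,
        Nat.card_zpowers, hp'3]; norm_num :
      Nat.card ((Subgroup.zpowers p').subgroupOf (cH z)) = 3 ^ 1)).exists_le_sylow
    have hTc : Nat.card ((T : Subgroup ↥(cH z)).map (cH z).subtype) = 27 := by
      rw [Subgroup.card_map_of_injective (Subgroup.subtype_injective _), Sylow.card_eq_multiplicity, card_cH hJ,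
        show (2 ^ 13 * 3 * 887040 : ℕ) = 3 ^ 3 * 807403520 by norm_num,
        Nat.factorization_mul (by norm_num) (by norm_num), Finsupp.add_apply,
        Nat.prime_three.factorization_pow, Finsupp.single_eq_same,
        Nat.factorization_eq_zero_of_not_dvd (by norm_num)]
      norm_num
    obtain ⟨h, hh, hhS⟩ := exists_conj_of_card hJ (Subgroup.map_subtype_le _)
      (hSC.trans inf_le_left) hTc h27
    have hmem : h * p' * h⁻¹ ∈ (S : Subgroup G) :=
      hhS _ ⟨⟨p', hp'H⟩, hT (Subgroup.mem_zpowers p'), rfl⟩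
    refine ⟨_, hmem, fun hin' => haz ?_, isConj_iff.mpr ⟨h * g⁻¹, by rw [hp']; group⟩⟩
    have hgH : g⁻¹ ∈ cH z := by
      have := hNP (mem_normalizer_P hJ hp hp1 (n := h * g⁻¹)
        (by rw [show h * g⁻¹ * p * (h * g⁻¹)⁻¹ = h * p' * h⁻¹ by rw [hp']; group]; exact hin'))
      simpa using mul_mem (inv_mem hh) this
    rw [← hga, mul_inv_eq_iff_eq_mul]
    exact mem_cH.mp (inv_inv g ▸ inv_mem hgH)
  -- assembly
  have hall : ∀ x : G, orderOf x = 3 → IsConj p x := by
    intro x hx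
    obtain ⟨s, hs, hxs, hs3⟩ := hS x hx
    refine IsConj.trans ?_ hxs.symm
    by_cases hsP : s ∈ P
    · exact hin p hp s hsP hp1 fun e => by rw [e, orderOf_one] at hs3; norm_num at hs3
    · refine hpo.trans (hout o hoS s hs ?_ hs3 hoP hsP)
      obtain ⟨u, hu⟩ := isConj_iff.mp hpo
      rw [← hu]
      exact (MulEquiv.orderOf_eq (MulAut.conj u) p).trans (orderOf_eq_prime (pow_three_P hJ hp) hp1)
  exact fun x y hx hy => (hall x hx).symm.trans (hall y hy)

end CfsgLib.J4Type86.ThreeClass
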