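import Mathlib

/-!
# An involution on a module of order `2^12` with a Heisenberg frame

`ω` is fixed-point free of order 3, `g, h` generate a Heisenberg group with commutator `ω` and `i`
is a quarter turn on `(g, h)`.  Then `i²` fixes exactly `2^8` vectors.
-/

set_option autoImplicit false

namespace CfsgLib.J4Type86

variable {V : Type*} [AddCommGroup V] [Finite V]

/-- A group of order at most 16 with a fixed-point-free map of order 3: orders 1, 4, 16. -/
theorem card_mod_three (S : AddSubgroup V) (w : V →+ V) (hS : ∀ v ∈ S, w v ∈ S)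
    (h3 : ∀ v, w (w (w v)) = v) (hfix : ∀ v, w v = v → v = 0) : Nat.card S % 3 = 1 := by
  classical
  haveI : Fact (Nat.Prime 3) := ⟨Nat.prime_three⟩
  let π : Equiv.Perm S :=
    { toFun := fun v => ⟨w v, hS v v.2⟩
      invFun := fun v => ⟨w (w v), hS _ (hS v v.2)⟩
      left_inv := fun v => Subtype.ext (h3 v)
      right_inv := fun v => Subtype.ext (h3 v) }
  haveI := Fintype.ofFinite S
  have hπ : π ^ 3 ^ 1 = 1 := Equiv.ext fun v => Subtype.ext (h3 v)
  have h := Equiv.Perm.card_compl_support_modEq hπ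
  have h1 : π.supportᶜ = {0} := by
    ext v
    rw [Finset.mem_compl, Equiv.Perm.mem_support, not_not, Finset.mem_singleton]
    exact ⟨fun e => Subtype.ext (hfix v (congrArg Subtype.val e)),
      fun e => by subst e; exact Subtype.ext (map_zero w)⟩
  rw [h1, Finset.card_singleton, ← Nat.card_eq_fintype_card] at h
  exact h.symm

/-- The data of the frame, pointwise. -/
structure Heis (V : Type*) [AddCommGroup V] where
  w : V →+ V
  g : V →+ V
  h : V →+ V
  i : V →+ V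
  add_self : ∀ v : V, v + v = 0
  w_rel : ∀ v, v + w v + w (w v) = 0
  w_g : ∀ v, w (g v) = g (w v)
  w_h : ∀ v, w (h v) = h (w v)
  w_i : ∀ v, w (i v) = i (w v)
  g_three : ∀ v, g (g (g v)) = v
  gh : ∀ v, g (h v) = w (h (g v))
  ig : ∀ v, i (g v) = h (i v)
  ih : ∀ v, i (h v) = g (g (i v))
  i_four : ∀ v, i (i (i (i v))) = v

namespace Heis

variable (D : Heis V)

theorem w_three (v : V) : D.w (D.w (D.w v)) = v := by
  have h1 := D.w_rel (D.w v)
  have h2 := D.w_rel v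
  have := congrArg₂ (· + ·) h1 h2
  simp only [add_zero] at this
  have hs : D.w (D.w (D.w v)) + v = 0 := by
    rw [← this]
    have e1 := D.add_self (D.w v)
    have e2 := D.add_self (D.w (D.w v))
    calc D.w (D.w (D.w v)) + v
        = D.w (D.w (D.w v)) + v + (D.w v + D.w v) + (D.w (D.w v) + D.w (D.w v)) := by
          rw [e1, e2, add_zero, add_zero]
      _ = _ := by abel
  exact (eq_neg_of_add_eq_zero_left hs).trans (neg_eq_of_add_eq_zero_left (D.add_self v))

theorem w_fix {v : V} (h : D.w v = v) : v = 0 := by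
  have := D.w_rel v
  rwa [h, h, D.add_self, zero_add] at this

theorem w_mul (v : V) : v + D.w v = D.w (D.w v) :=
  (eq_neg_of_add_eq_zero_left (D.w_rel v)).trans (neg_eq_of_add_eq_zero_left (D.add_self _))

theorem h_three (v : V) : D.h (D.h (D.h v)) = v := by
  have key : ∀ u, D.h (D.i u) = D.i (D.g u) := fun u => (D.ig u).symm
  have hi : v = D.i (D.i (D.i (D.i v))) := (D.i_four v).symm
  rw [hi, key, key, key, D.g_three]

/-- The projection on the fixed space of `g`. -/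
def e0 (v : V) : V := v + D.g v + D.g (D.g v)

/-- The projection on `g = ω`. -/
def e2 (v : V) : V := v + D.w (D.w (D.g v)) + D.w (D.g (D.g v))

/-- The projection on `g = ω²`. -/
def e1 (v : V) : V := v + D.w (D.g v) + D.w (D.w (D.g (D.g v)))

theorem sum_e (v : V) : D.e0 v + D.e1 v + D.e2 v = v := by
  have h1 := D.w_rel (D.g v)
  have h2 := D.w_rel (D.g (D.g v))
  calc D.e0 v + D.e1 v + D.e2 v
      = v + (v + v) + (D.g v + D.w (D.g v) + D.w (D.w (D.g v))) +
        (D.g (D.g v) + D.w (D.g (D.g v)) + D.w (D.w (D.g (D.g v)))) := by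
        simp only [e0, e1, e2]; abel
    _ = v := by rw [h1, h2, D.add_self, add_zero, add_zero, add_zero]

theorem g_e0 (v : V) : D.g (D.e0 v) = D.e0 v := by
  simp only [e0, map_add, D.g_three]
  abel

theorem g_e2 (v : V) : D.g (D.e2 v) = D.w (D.e2 v) := by
  simp only [e2, map_add, ← D.w_g, D.g_three, D.w_three]
  abel

theorem g_e1 (v : V) : D.g (D.e1 v) = D.w (D.w (D.e1 v)) := by
  simp only [e1, map_add, ← D.w_g, D.g_three, D.w_three]
  abel

/-- The fixed space of `g`. -/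
def V0 : AddSubgroup V where
  carrier := {v | D.g v = v}
  add_mem' := fun {a b} (ha : D.g a = a) (hb : D.g b = b) => show D.g (a + b) = a + b by
    rw [map_add, ha, hb]
  zero_mem' := map_zero D.g
  neg_mem' := fun {a} (ha : D.g a = a) => show D.g (-a) = -a by rw [map_neg, ha]

/-- The space `g = ω`. -/
def V1 : AddSubgroup V where
  carrier := {v | D.g v = D.w v}
  add_mem' := fun {a b} (ha : D.g a = D.w a) (hb : D.g b = D.w b) =>
    show D.g (a + b) = D.w (a + b) by rw [map_add, map_add, ha, hb]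
  zero_mem' := show D.g 0 = D.w 0 by rw [map_zero, map_zero]
  neg_mem' := fun {a} (ha : D.g a = D.w a) => show D.g (-a) = D.w (-a) by rw [map_neg, map_neg, ha]

/-- The space `g = ω²`. -/
def V2 : AddSubgroup V where
  carrier := {v | D.g v = D.w (D.w v)}
  add_mem' := fun {a b} (ha : D.g a = D.w (D.w a)) (hb : D.g b = D.w (D.w b)) =>
    show D.g (a + b) = D.w (D.w (a + b)) by rw [map_add, map_add, map_add, ha, hb]
  zero_mem' := show D.g 0 = D.w (D.w 0) by simp
  neg_mem' := fun {a} (ha : D.g a = D.w (D.w a)) =>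
    show D.g (-a) = D.w (D.w (-a)) by rw [map_neg, map_neg, map_neg, ha]

theorem mem_V0 {v : V} : v ∈ D.V0 ↔ D.g v = v := Iff.rfl
theorem mem_V1 {v : V} : v ∈ D.V1 ↔ D.g v = D.w v := Iff.rfl
theorem mem_V2 {v : V} : v ∈ D.V2 ↔ D.g v = D.w (D.w v) := Iff.rfl

theorem three_add (D : Heis V) (v : V) : v + v + v = v := by rw [D.add_self, zero_add]

theorem proj_V0 {v : V} (hv : v ∈ D.V0) : D.e0 v = v ∧ D.e1 v = 0 ∧ D.e2 v = 0 := by
  simp only [mem_V0] at hv
  refine ⟨?_, ?_, ?_⟩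
  · rw [e0, hv, hv, D.three_add]
  · rw [e1, hv, hv, D.w_rel]
  · rw [e2, hv, hv, add_assoc, add_comm (D.w (D.w v)), ← add_assoc, D.w_rel]

theorem proj_V1 {v : V} (hv : v ∈ D.V1) : D.e0 v = 0 ∧ D.e1 v = 0 ∧ D.e2 v = v := by
  simp only [mem_V1] at hv
  refine ⟨?_, ?_, ?_⟩
  · rw [e0, hv, ← D.w_g, hv, D.w_rel]
  · rw [e1, hv, ← D.w_g, hv, D.w_three (D.w v), add_assoc, add_comm (D.w (D.w v)), ← add_assoc,
      D.w_rel]
  · rw [e2, hv, ← D.w_g, hv, D.w_three, D.three_add]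

theorem proj_V2 {v : V} (hv : v ∈ D.V2) : D.e0 v = 0 ∧ D.e1 v = v ∧ D.e2 v = 0 := by
  simp only [mem_V2] at hv
  refine ⟨?_, ?_, ?_⟩
  · rw [e0, hv, ← D.w_g, ← D.w_g, hv, D.w_three (D.w v), add_assoc, add_comm (D.w (D.w v)),
      ← add_assoc, D.w_rel]
  · rw [e1, hv, D.w_three, ← D.w_g, ← D.w_g, hv, D.w_three (D.w v), D.w_three, D.three_add]
  · rw [e2, hv, ← D.w_g, ← D.w_g, hv, D.w_three (D.w v), D.w_rel]

theorem h_V0 {v : V} (hv : v ∈ D.V0) : D.h v ∈ D.V1 := by
  rw [mem_V1, D.gh, D.mem_V0.mp hv]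

theorem h_V1 {v : V} (hv : v ∈ D.V1) : D.h v ∈ D.V2 := by
  rw [mem_V2, D.gh, D.mem_V1.mp hv, ← D.w_h]

theorem h_V2 {v : V} (hv : v ∈ D.V2) : D.h v ∈ D.V0 := by
  rw [mem_V0, D.gh, D.mem_V2.mp hv, ← D.w_h, ← D.w_h, D.w_three]

theorem card_V0 (hV : Nat.card V = 4096) : Nat.card D.V0 = 16 := by
  let φ : V ≃ D.V0 × D.V1 × D.V2 :=
    { toFun := fun v => (⟨D.e0 v, D.g_e0 v⟩, ⟨D.e2 v, D.g_e2 v⟩, ⟨D.e1 v, D.g_e1 v⟩)
      invFun := fun p => (p.1 : V) + p.2.2 + p.2.1
      left_inv := fun v => D.sum_e v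
      right_inv := by
        rintro ⟨⟨a, ha⟩, ⟨b, hb⟩, ⟨c, hc⟩⟩
        obtain ⟨a0, a1, a2⟩ := D.proj_V0 ha
        obtain ⟨b0, b1, b2⟩ := D.proj_V1 hb
        obtain ⟨c0, c1, c2⟩ := D.proj_V2 hc
        have ad0 : ∀ x y, D.e0 (x + y) = D.e0 x + D.e0 y := fun x y => by
          simp only [e0, map_add]; abel
        have ad1 : ∀ x y, D.e1 (x + y) = D.e1 x + D.e1 y := fun x y => by
          simp only [e1, map_add]; abel
        have ad2 : ∀ x y, D.e2 (x + y) = D.e2 x + D.e2 y := fun x y => by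
          simp only [e2, map_add]; abel
        refine Prod.ext (Subtype.ext ?_) (Prod.ext (Subtype.ext ?_) (Subtype.ext ?_))
        · simp [ad0, a0, b0, c0]
        · simp [ad2, a2, b2, c2]
        · simp [ad1, a1, b1, c1] }
  let r01 : D.V0 ≃ D.V1 :=
    { toFun := fun v => ⟨D.h v, D.h_V0 v.2⟩
      invFun := fun v => ⟨D.h (D.h v), D.h_V2 (D.h_V1 v.2)⟩
      left_inv := fun v => Subtype.ext (D.h_three v)
      right_inv := fun v => Subtype.ext (D.h_three v) }
  let r12 : D.V1 ≃ D.V2 :=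
    { toFun := fun v => ⟨D.h v, D.h_V1 v.2⟩
      invFun := fun v => ⟨D.h (D.h v), D.h_V0 (D.h_V2 v.2)⟩
      left_inv := fun v => Subtype.ext (D.h_three v)
      right_inv := fun v => Subtype.ext (D.h_three v) }
  have h := Nat.card_congr φ
  rw [hV, Nat.card_prod, Nat.card_prod, ← Nat.card_congr r12, ← Nat.card_congr r01] at h
  have h16 : Nat.card D.V0 ^ 3 = 16 ^ 3 := by rw [pow_three, ← h]; norm_num
  exact Nat.pow_left_injective (by norm_num) h16

/-- `t = i²`. -/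
theorem t_g (v : V) : D.i (D.i (D.g v)) = D.g (D.g (D.i (D.i v))) := by
  rw [D.ig, D.ih]

theorem t_V0 {v : V} (hv : v ∈ D.V0) : D.i (D.i v) ∈ D.V0 := by
  have h := D.t_g v
  rw [D.mem_V0.mp hv] at h
  rw [mem_V0]
  calc D.g (D.i (D.i v)) = D.g (D.g (D.g (D.i (D.i v)))) := by rw [← h]
    _ = D.i (D.i v) := D.g_three _

theorem t_e (v : V) : D.i (D.i (D.e1 v)) = D.e2 (D.i (D.i v)) ∧
    D.i (D.i (D.e2 v)) = D.e1 (D.i (D.i v)) := by
  constructor
  · simp only [e1, e2, map_add, ← D.w_i, D.t_g, D.g_three]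
    abel
  · simp only [e1, e2, map_add, ← D.w_i, D.t_g, D.g_three]
    abel

/-- `e_g e_h e_g = e_g`. -/
theorem e0_eh_V0 {v : V} (hv : v ∈ D.V0) : D.e0 (v + D.h v + D.h (D.h v)) = v := by
  have ad0 : ∀ x y, D.e0 (x + y) = D.e0 x + D.e0 y := fun x y => by
    simp only [e0, map_add]; abel
  rw [ad0, ad0, (D.proj_V0 hv).1, (D.proj_V1 (D.h_V0 hv)).1, (D.proj_V2 (D.h_V1 (D.h_V0 hv))).1,
    add_zero, add_zero]

/-- The turn projected to the fixed space of `g`. -/
def u : D.V0 →+ D.V0 where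
  toFun v := ⟨D.e0 (D.i v), D.g_e0 _⟩
  map_zero' := Subtype.ext (by simp [e0])
  map_add' a b := Subtype.ext (by simp [e0]; abel)

theorem u_u (v : D.V0) : ((D.u (D.u v) : D.V0) : V) = D.i (D.i v) := by
  show D.e0 (D.i (D.e0 (D.i v))) = _
  have h : D.i (D.e0 (D.i v)) = D.i (D.i v) + D.h (D.i (D.i v)) + D.h (D.h (D.i (D.i v))) := by
    simp only [e0, map_add, D.ig]
  rw [h]
  exact D.e0_eh_V0 (D.t_V0 v.2)

theorem t_V0_eq (hV : Nat.card V = 4096) {v : V} (hv : v ∈ D.V0) : D.i (D.i v) = v := by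
  let n : D.V0 →+ D.V0 := D.u + AddMonoidHom.id _
  have hn : ∀ a, n a = D.u a + a := fun a => rfl
  have h2 : ∀ a : D.V0, a + a = 0 := fun a => Subtype.ext (D.add_self a)
  have hn2 : ∀ a, n (n a) = D.u (D.u a) + a := fun a => by
    rw [hn, hn, map_add]
    calc D.u (D.u a) + D.u a + (D.u a + a) = D.u (D.u a) + (D.u a + D.u a) + a := by abel
      _ = _ := by rw [h2, add_zero]
  have hu4 : ∀ a, D.u (D.u (D.u (D.u a))) = a := fun a => Subtype.ext (by
    rw [D.u_u, D.u_u, D.i_four])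
  have hn4 : ∀ a, n (n (n (n a))) = 0 := fun a => by
    rw [hn2, hn2, map_add, map_add, hu4]
    calc a + D.u (D.u a) + (D.u (D.u a) + a) = (a + a) + (D.u (D.u a) + D.u (D.u a)) := by abel
      _ = 0 := by rw [h2, h2, add_zero]
  let w0 : D.V0 →+ D.V0 :=
    { toFun := fun a => ⟨D.w (a : V), show D.g (D.w (a : V)) = D.w (a : V) by rw [← D.w_g, D.mem_V0.mp a.2]⟩
      map_zero' := Subtype.ext (map_zero D.w)
      map_add' := fun a b => Subtype.ext (map_add D.w (a : V) (b : V)) }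
  have hwn : ∀ a, w0 (n a) = n (w0 a) := fun a => Subtype.ext (by
    show D.w (D.e0 (D.i (a : V)) + (a : V)) = D.e0 (D.i (D.w (a : V))) + D.w (a : V)
    simp only [e0, map_add, D.w_g, D.w_i])
  have hmod : ∀ S : AddSubgroup D.V0, (∀ a ∈ S, w0 a ∈ S) → Nat.card S % 3 = 1 := fun S hS =>
    card_mod_three S w0 hS (fun a => Subtype.ext (D.w_three a))
      (fun a ha => Subtype.ext (D.w_fix (congrArg Subtype.val ha)))
  set S1 : AddSubgroup D.V0 := n.range
  set S2 : AddSubgroup D.V0 := S1.map n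
  have hstrict : ∀ S : AddSubgroup D.V0, S.map n = S → S = ⊥ := by
    intro S hS
    rw [eq_bot_iff]
    intro a ha
    rw [← hS] at ha
    obtain ⟨b, hb, rfl⟩ := ha
    rw [← hS] at hb
    obtain ⟨c, hc, rfl⟩ := hb
    rw [← hS] at hc
    obtain ⟨d, hd, rfl⟩ := hc
    rw [← hS] at hd
    obtain ⟨e, -, rfl⟩ := hd
    exact AddSubgroup.mem_bot.mpr (hn4 e)
  have h16 := D.card_V0 hV
  have hinv1 : ∀ a ∈ S1, w0 a ∈ S1 := by
    rintro _ ⟨b, rfl⟩
    exact ⟨w0 b, (hwn b).symm⟩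
  have hinv2 : ∀ a ∈ S2, w0 a ∈ S2 := by
    rintro _ ⟨b, hb, rfl⟩
    exact ⟨w0 b, hinv1 b hb, (hwn b).symm⟩
  have hle : S2 ≤ S1 := by
    rintro _ ⟨b, -, rfl⟩
    exact ⟨b, rfl⟩
  have hc1 : Nat.card S1 ≤ 4 := by
    have hd : Nat.card S1 ∣ 16 := h16 ▸ AddSubgroup.card_addSubgroup_dvd_card S1
    have hne : Nat.card S1 ≠ 16 := fun h => by
      have htop : S1 = ⊤ := AddSubgroup.eq_top_of_card_eq _ (by rw [h, h16])
      have := hstrict ⊤ (by rw [← AddMonoidHom.range_eq_map]; exact htop)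
      have hcard := congrArg (fun S : AddSubgroup D.V0 => Nat.card S) this
      simp only [AddSubgroup.card_top, AddSubgroup.card_bot, h16] at hcard
      omega
    have h3 := hmod S1 hinv1
    have : Nat.card S1 ≤ 16 := Nat.le_of_dvd (by norm_num) hd
    interval_cases h : Nat.card S1 <;> omega
  have hc2 : S2 = ⊥ := by
    have hd : Nat.card S2 ∣ Nat.card S1 := AddSubgroup.card_dvd_of_le hle
    have h3 := hmod S2 hinv2
    have hlt : Nat.card S2 ≤ 4 := (Nat.le_of_dvd Nat.card_pos hd).trans hc1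
    have hcases : Nat.card S2 = 1 ∨ Nat.card S2 = 4 := by omega
    rcases hcases with h | h
    · exact AddSubgroup.eq_bot_of_card_eq _ h
    · have heq : S2 = S1 := AddSubgroup.eq_of_le_of_card_ge hle (h ▸ hc1)
      have := hstrict S1 heq
      rw [heq, this]
  have hnn : n (n ⟨v, hv⟩) = 0 :=
    AddSubgroup.mem_bot.mp (hc2 ▸ ⟨n ⟨v, hv⟩, ⟨⟨v, hv⟩, rfl⟩, rfl⟩)
  rw [hn2] at hnn
  have h := congrArg Subtype.val (eq_neg_of_add_eq_zero_left hnn)
  rw [D.u_u, neg_eq_of_add_eq_zero_left (h2 ⟨v, hv⟩)] at h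
  exact h

/-- `i²` fixes exactly `2^8` vectors. -/
theorem card_fixed (hV : Nat.card V = 4096) : Nat.card {v : V // D.i (D.i v) = v} = 256 := by
  let φ : {v : V // D.i (D.i v) = v} ≃ D.V0 × D.V1 :=
    { toFun := fun v => (⟨D.e0 v, D.g_e0 v⟩, ⟨D.e2 v, D.g_e2 v⟩)
      invFun := fun p => ⟨(p.1 : V) + p.2 + D.i (D.i p.2), by
        rw [map_add, map_add, map_add, map_add, D.i_four, D.t_V0_eq hV p.1.2]
        abel⟩
      left_inv := fun v => Subtype.ext (by
        show D.e0 (v : V) + D.e2 v + D.i (D.i (D.e2 v)) = v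
        rw [(D.t_e v).2, v.2]
        calc D.e0 (v : V) + D.e2 v + D.e1 v = D.e0 (v : V) + D.e1 v + D.e2 v := by abel
          _ = v := D.sum_e v)
      right_inv := by
        rintro ⟨⟨a, ha⟩, ⟨b, hb⟩⟩
        obtain ⟨a0, -, a2⟩ := D.proj_V0 ha
        obtain ⟨b0, b1, b2⟩ := D.proj_V1 hb
        have ad0 : ∀ x y, D.e0 (x + y) = D.e0 x + D.e0 y := fun x y => by
          simp only [e0, map_add]; abel
        have ad2 : ∀ x y, D.e2 (x + y) = D.e2 x + D.e2 y := fun x y => by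
          simp only [e2, map_add]; abel
        have htb : D.i (D.i b) ∈ D.V2 := by
          conv => arg 2; rw [← b2, (D.t_e b).2]
          exact D.g_e1 _
        obtain ⟨c0, -, c2⟩ := D.proj_V2 htb
        refine Prod.ext (Subtype.ext ?_) (Subtype.ext ?_)
        · simp [ad0, a0, b0, c0]
        · simp [ad2, a2, b2, c2] }
  let r01 : D.V0 ≃ D.V1 :=
    { toFun := fun v => ⟨D.h v, D.h_V0 v.2⟩
      invFun := fun v => ⟨D.h (D.h v), D.h_V2 (D.h_V1 v.2)⟩
      left_inv := fun v => Subtype.ext (D.h_three v)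
      right_inv := fun v => Subtype.ext (D.h_three v) }
  rw [Nat.card_congr φ, Nat.card_prod, ← Nat.card_congr r01, D.card_V0 hV]

end Heis

end CfsgLib.J4Type86
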