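import Cfsg.Agent.Lib.J4Type86.Frame
import Cfsg.Agent.Lib.J4Type86.Eigen

/-!
# Involutions of `C_H(P)` on the extraspecial core

An involution of `C_H(P)` other than `z` centralizes a subgroup of order `2^9` of the core, which
is not abelian.
-/

set_option autoImplicit false

namespace CfsgLib.J4Type86

open Cfsg CfsgLib.LargeExtra
open scoped Pointwise

variable {G : Type*} [Group G] [Finite G]

/-- The core as a type. -/
abbrev CoreT (z : G) : Type _ := ↥(twoCoreOfCentralizer z)

/-- The core modulo its centre, additively. -/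
abbrev CoreV (z : G) : Type _ := Additive (CoreT z ⧸ Subgroup.center (CoreT z))

/-- Conjugation on the core. -/
noncomputable def coreConj {z : G} (c : ↥(cH z)) : CoreT z ≃* CoreT z :=
  (twoCoreOfCentralizer z).normalizerMonoidHom (Subgroup.inclusion cH_le_normalizer_core c)

theorem coreConj_apply {z : G} (c : ↥(cH z)) (e : CoreT z) :
    (coreConj c e : G) = c * e * (c : G)⁻¹ := rfl

/-- The action on the core modulo its centre. -/
noncomputable def coreAct {z : G} (c : ↥(cH z)) : CoreV z →+ CoreV z :=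
  MonoidHom.toAdditive (QuotientGroup.map (Subgroup.center (CoreT z)) (Subgroup.center (CoreT z))
    (coreConj c).toMonoidHom (fun e he => by
      rw [Subgroup.mem_comap, Subgroup.mem_center_iff]
      intro f
      obtain ⟨f', rfl⟩ := (coreConj c).surjective f
      show coreConj c f' * coreConj c e = coreConj c e * coreConj c f'
      rw [← map_mul, ← map_mul, Subgroup.mem_center_iff.mp he f']))

theorem coreAct_mk {z : G} (c : ↥(cH z)) (e : CoreT z) :
    coreAct c (Additive.ofMul (e : CoreT z ⧸ Subgroup.center (CoreT z))) =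
      Additive.ofMul ((coreConj c e : CoreT z) : CoreT z ⧸ Subgroup.center (CoreT z)) := rfl

theorem coreAct_mul {z : G} (a b : ↥(cH z)) (v : CoreV z) :
    coreAct (a * b) v = coreAct a (coreAct b v) := by
  obtain ⟨w, rfl⟩ := Additive.ofMul.surjective v
  obtain ⟨e, rfl⟩ := QuotientGroup.mk_surjective w
  rw [coreAct_mk, coreAct_mk, coreAct_mk]
  congr 2
  apply Subtype.ext
  simp [coreConj_apply, mul_assoc]

variable {z : G} {P : Subgroup G} (hJ : IsOfJankoFourTypeWith z P)
include hJ

theorem mem_center_core_iff {e : CoreT z} :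
    e ∈ Subgroup.center (CoreT z) ↔ (e : G) = 1 ∨ (e : G) = z := by
  rw [← (extraAt hJ).mem_zpowers_z, ← (extraAt hJ).centre]
  exact ⟨fun h => ⟨e, h, rfl⟩, fun ⟨f, hf, hfe⟩ => Subtype.ext hfe ▸ hf⟩

theorem coreAct_center {c : ↥(cH z)} (hc : (c : G) = 1 ∨ (c : G) = z) (v : CoreV z) :
    coreAct c v = v := by
  obtain ⟨w, rfl⟩ := Additive.ofMul.surjective v
  obtain ⟨e, rfl⟩ := QuotientGroup.mk_surjective w
  rw [coreAct_mk]
  congr 2
  apply Subtype.ext
  rw [coreConj_apply]
  rcases hc with h | h <;> rw [h]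
  · simp
  · rw [← (extraAt hJ).comm_z e.2, mul_inv_cancel_right]

omit hJ in
theorem coreAct_congr {a b : ↥(cH z)} (h : (a : G) = b) (v : CoreV z) : coreAct a v = coreAct b v := by
  rw [Subtype.ext h]

theorem card_center_core : Nat.card ↥(Subgroup.center (CoreT z)) = 2 := hJ.2.1.2

theorem card_coreV : Nat.card (CoreV z) = 4096 := by
  have h := Subgroup.card_eq_card_quotient_mul_card_subgroup (Subgroup.center (CoreT z))
  rw [card_center_core hJ, card_core hJ] at h
  have h2 : Nat.card (CoreV z) = Nat.card (CoreT z ⧸ Subgroup.center (CoreT z)) := rfl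
  omega

theorem coreV_mul_self (a : CoreT z ⧸ Subgroup.center (CoreT z)) : a * a = 1 := by
  obtain ⟨e, rfl⟩ := QuotientGroup.mk_surjective a
  rw [← QuotientGroup.mk_mul, QuotientGroup.eq_one_iff, mem_center_core_iff hJ]
  exact (extraAt hJ).sq_cases e.2

theorem coreV_comm (a b : CoreT z ⧸ Subgroup.center (CoreT z)) : a * b = b * a := by
  have h := coreV_mul_self hJ
  calc a * b = (a * b)⁻¹ := eq_inv_of_mul_eq_one_left (h _)
    _ = b⁻¹ * a⁻¹ := mul_inv_rev a b
    _ = b * a := by rw [inv_eq_of_mul_eq_one_right (h b), inv_eq_of_mul_eq_one_right (h a)]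

/-- A non-identity element of `P` has no fixed vector. -/
theorem coreAct_q_fix {q : G} (hq : q ∈ P) (hq1 : q ≠ 1) {v : CoreV z}
    (hv : coreAct ⟨q, P_le_cH hJ hq⟩ v = v) : v = 0 := by
  obtain ⟨w, rfl⟩ := Additive.ofMul.surjective v
  obtain ⟨e, rfl⟩ := QuotientGroup.mk_surjective w
  rw [coreAct_mk] at hv
  have hv' := QuotientGroup.eq.mp (Additive.ofMul.injective hv)
  rw [mem_center_core_iff hJ, Subgroup.coe_mul, Subgroup.coe_inv, coreConj_apply] at hv'
  have hfix : q * (e : G) * q⁻¹ = e := by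
    rcases hv' with h | h
    · exact inv_mul_eq_one.mp h
    · exfalso
      have hE := extraAt hJ
      have hqz : q * z = z * q := mem_cH.mp (P_le_cH hJ hq)
      have h1 : q * (e : G) * q⁻¹ = e * z := by
        rw [inv_mul_eq_iff_eq_mul] at h
        conv_rhs => rw [h, mul_assoc, hE.sq_one, mul_one]
      have hstep : ∀ n : ℕ, q ^ n * (e : G) * (q ^ n)⁻¹ = e * z ^ n := by
        intro n
        induction n with
        | zero => simp
        | succ m ih =>
          calc q ^ (m + 1) * (e : G) * (q ^ (m + 1))⁻¹ = q * (q ^ m * e * (q ^ m)⁻¹) * q⁻¹ := by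
                rw [pow_succ']; group
            _ = (q * e * q⁻¹) * (q * z ^ m * q⁻¹) := by rw [ih]; group
            _ = e * z * z ^ m := by
                rw [h1, (Commute.pow_right hqz m).eq, mul_inv_cancel_right]
            _ = e * z ^ (m + 1) := by rw [mul_assoc, ← pow_succ']
      have := hstep 3
      rw [pow_three_P hJ hq, pow_succ z 2, sq, hE.sq_one, one_mul, one_mul, inv_one, mul_one] at this
      exact hE.ne_one (mul_eq_left.mp this.symm)
  have hcen : (e : G) ∈ twoCoreOfCentralizer z ⊓ Subgroup.centralizer (P : Set G) := by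
    refine ⟨e.2, Subgroup.mem_centralizer_iff.mpr fun p hp => ?_⟩
    have hP : Subgroup.zpowers q = P := Subgroup.eq_of_le_of_card_ge (Subgroup.zpowers_le.mpr hq)
      (by rw [card_P hJ, Nat.card_zpowers, orderOf_eq_prime (pow_three_P hJ hq) hq1])
    rw [SetLike.mem_coe, ← hP, Subgroup.mem_zpowers_iff] at hp
    obtain ⟨n, rfl⟩ := hp
    exact (Commute.zpow_left (mul_inv_eq_iff_eq_mul.mp hfix) n).eq
  rw [hJ.2.2.2.2.2.2.1, (extraAt hJ).mem_zpowers_z] at hcen
  show Additive.ofMul _ = Additive.ofMul 1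
  rw [(QuotientGroup.eq_one_iff e).mpr ((mem_center_core_iff hJ).mpr hcen)]

theorem Frame.Y_mem (F : Frame z P) : F.Y ∈ cC z P :=
  F.Y_def ▸ mul_mem (mul_mem F.I_mem F.X_mem) (inv_mem F.I_mem)

theorem Frame.card_fixed_t (F : Frame z P) :
    Nat.card {v : CoreV z // coreAct ⟨F.I ^ 2, pow_mem F.I_mem.1 2⟩ v = v} = 256 := by
  letI : CommGroup (CoreT z ⧸ Subgroup.center (CoreT z)) :=
    { (inferInstance : Group (CoreT z ⧸ Subgroup.center (CoreT z))) with mul_comm := coreV_comm hJ }
  set q' : ↥(cH z) := ⟨F.q, P_le_cH hJ F.q_mem⟩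
  set g' : ↥(cH z) := ⟨F.X, F.X_mem.1⟩
  set h' : ↥(cH z) := ⟨F.Y, (F.Y_mem hJ).1⟩
  set i' : ↥(cH z) := ⟨F.I, F.I_mem.1⟩
  have hqc : ∀ c ∈ cC z P, Commute F.q c := fun c hc =>
    commute_ker hJ ⟨F.q, F.q_mem, Or.inl rfl⟩ hc
  let D : Heis (CoreV z) :=
    { w := coreAct q'
      g := coreAct g'
      h := coreAct h'
      i := coreAct i'
      add_self := fun v => by
        obtain ⟨w, rfl⟩ := Additive.ofMul.surjective v
        exact congrArg Additive.ofMul (coreV_mul_self hJ w)
      w_rel := fun v => by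
        refine coreAct_q_fix hJ F.q_mem F.q_ne ?_
        rw [map_add, map_add]
        have h3 : coreAct q' (coreAct q' (coreAct q' v)) = v := by
          rw [← coreAct_mul, ← coreAct_mul]
          refine coreAct_center hJ (Or.inl ?_) v
          show F.q * F.q * F.q = 1
          rw [mul_assoc, ← pow_three, pow_three_P hJ F.q_mem]
        rw [h3]
        abel
      w_g := fun v => by
        rw [← coreAct_mul, ← coreAct_mul]
        exact coreAct_congr (hqc _ F.X_mem).eq v
      w_h := fun v => by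
        rw [← coreAct_mul, ← coreAct_mul]
        exact coreAct_congr (hqc _ (F.Y_mem hJ)).eq v
      w_i := fun v => by
        rw [← coreAct_mul, ← coreAct_mul]
        exact coreAct_congr (hqc _ F.I_mem).eq v
      g_three := fun v => by
        rw [← coreAct_mul, ← coreAct_mul]
        refine coreAct_center hJ (Or.inl ?_) v
        show F.X * F.X * F.X = 1
        rw [mul_assoc, ← pow_three, F.X_cube]
      gh := fun v => by
        rw [← coreAct_mul, ← coreAct_mul, ← coreAct_mul]
        refine coreAct_congr ?_ v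
        show F.X * F.Y = F.q * F.Y * F.X
        rw [mul_assoc]; exact F.comm
      ig := fun v => by
        rw [← coreAct_mul, ← coreAct_mul]
        exact coreAct_congr (mul_inv_eq_iff_eq_mul.mp F.Y_def) v
      ih := fun v => by
        rw [← coreAct_mul, ← coreAct_mul, ← coreAct_mul]
        refine coreAct_congr ?_ v
        show F.I * F.Y = F.X * F.X * F.I
        rw [mul_inv_eq_iff_eq_mul.mp F.I_Y]
        congr 1
        refine inv_eq_of_mul_eq_one_right ?_
        rw [← pow_three, F.X_cube]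
      i_four := fun v => by
        rw [← coreAct_mul, ← coreAct_mul, ← coreAct_mul]
        refine coreAct_center hJ ?_ v
        show F.I * F.I * F.I * F.I = 1 ∨ F.I * F.I * F.I * F.I = z
        rw [show F.I * F.I * F.I * F.I = F.I ^ 4 by simp [pow_succ]]
        exact F.I_four }
  have h := D.card_fixed (card_coreV hJ)
  rw [← h]
  refine Nat.card_congr (Equiv.subtypeEquivRight fun v => ?_)
  show _ ↔ coreAct i' (coreAct i' v) = v
  rw [← coreAct_mul, coreAct_congr (b := i' * i') (show F.I ^ 2 = F.I * F.I from sq F.I)]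

/-- An element of `C_H(P)` fixing a vector centralizes its preimages. -/
theorem commute_of_coreAct_fix {q t : G} (hq : q ∈ P) (hq1 : q ≠ 1) (ht : t ∈ cC z P) {e : CoreT z}
    (hfix : coreAct ⟨t, ht.1⟩ (Additive.ofMul (e : CoreT z ⧸ Subgroup.center (CoreT z))) =
      Additive.ofMul (e : CoreT z ⧸ Subgroup.center (CoreT z))) : t * (e : G) = e * t := by
  have hE := extraAt hJ
  have key : ∀ f : CoreT z,
      coreAct ⟨t, ht.1⟩ (Additive.ofMul (f : CoreT z ⧸ Subgroup.center (CoreT z))) =
        Additive.ofMul (f : CoreT z ⧸ Subgroup.center (CoreT z)) →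
      t * (f : G) * t⁻¹ = f ∨ t * (f : G) * t⁻¹ = f * z := by
    intro f hf
    rw [coreAct_mk] at hf
    have hf' := QuotientGroup.eq.mp (Additive.ofMul.injective hf)
    rw [mem_center_core_iff hJ, Subgroup.coe_mul, Subgroup.coe_inv, coreConj_apply] at hf'
    rcases hf' with h | h
    · exact Or.inl (inv_mul_eq_one.mp h)
    · refine Or.inr ?_
      rw [inv_mul_eq_iff_eq_mul] at h
      conv_rhs => rw [h, mul_assoc, hE.sq_one, mul_one]
  letI : CommGroup (CoreT z ⧸ Subgroup.center (CoreT z)) :=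
    { (inferInstance : Group (CoreT z ⧸ Subgroup.center (CoreT z))) with mul_comm := coreV_comm hJ }
  set q' : ↥(cH z) := ⟨q, P_le_cH hJ hq⟩
  set v : CoreV z := Additive.ofMul (e : CoreT z ⧸ Subgroup.center (CoreT z))
  have hself : ∀ u : CoreV z, u + u = 0 := fun u => by
    obtain ⟨w, rfl⟩ := Additive.ofMul.surjective u
    exact congrArg Additive.ofMul (coreV_mul_self hJ w)
  have h3 : ∀ u : CoreV z, coreAct q' (coreAct q' (coreAct q' u)) = u := fun u => by
    rw [← coreAct_mul, ← coreAct_mul]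
    refine coreAct_center hJ (Or.inl ?_) u
    show q * q * q = 1
    rw [mul_assoc, ← pow_three, pow_three_P hJ hq]
  have hrel : v + coreAct q' v + coreAct q' (coreAct q' v) = 0 := by
    refine coreAct_q_fix hJ hq hq1 ?_
    rw [map_add, map_add, h3]
    abel
  -- the witness `f` for `e ≡ [q, f]`
  set f : CoreT z := coreConj q' e with hfd
  have hf : coreAct ⟨t, ht.1⟩ (Additive.ofMul (f : CoreT z ⧸ Subgroup.center (CoreT z))) =
      Additive.ofMul (f : CoreT z ⧸ Subgroup.center (CoreT z)) := by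
    rw [hfd, ← coreAct_mk]
    conv_rhs => rw [show Additive.ofMul (e : CoreT z ⧸ Subgroup.center (CoreT z)) = v from rfl, ← hfix]
    rw [← coreAct_mul, ← coreAct_mul]
    exact coreAct_congr (commute_ker hJ ⟨q, hq, Or.inl rfl⟩ ht).eq.symm v
  obtain ⟨d, hd, hte⟩ : ∃ d, (d = 1 ∨ d = z) ∧ t * (f : G) * t⁻¹ = f * d := by
    rcases key f hf with h | h
    · exact ⟨1, Or.inl rfl, by rw [h, mul_one]⟩
    · exact ⟨z, Or.inr rfl, h⟩
  set k : CoreT z := coreConj q' f * f⁻¹ with hkd
  have htk : t * (k : G) = k * t := by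
    refine mul_inv_eq_iff_eq_mul.mp ?_
    have hc : Commute q t := commute_ker hJ ⟨q, hq, Or.inl rfl⟩ ht
    have hqd : q * d * q⁻¹ = d := by
      rcases hd with rfl | rfl
      · simp
      · rw [mem_cH.mp (P_le_cH hJ hq), mul_inv_cancel_right]
    rw [hkd, Subgroup.coe_mul, Subgroup.coe_inv, coreConj_apply]
    calc t * (q * (f : G) * q⁻¹ * (f : G)⁻¹) * t⁻¹
        = (t * q) * (f : G) * (t * q)⁻¹ * (t * (f : G) * t⁻¹)⁻¹ := by group
      _ = q * (t * (f : G) * t⁻¹) * q⁻¹ * (t * (f : G) * t⁻¹)⁻¹ := by rw [← hc.eq]; group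
      _ = q * (f : G) * (d * q⁻¹ * d⁻¹) * (f : G)⁻¹ := by rw [hte]; group
      _ = q * (f : G) * q⁻¹ * (f : G)⁻¹ := by
          have hdq : d * q⁻¹ = q⁻¹ * d := by
            exact (Commute.inv_right (show Commute d q from (mul_inv_eq_iff_eq_mul.mp hqd).symm)).eq
          rw [hdq, mul_inv_cancel_right]
  have hek : (e : CoreT z ⧸ Subgroup.center (CoreT z)) = k := by
    apply Additive.ofMul.injective
    rw [hkd, QuotientGroup.mk_mul, QuotientGroup.mk_inv, ofMul_mul, ofMul_inv, ← coreAct_mk, hfd,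
      ← coreAct_mk]
    show v = coreAct q' (coreAct q' v) + -coreAct q' v
    rw [neg_eq_of_add_eq_zero_left (hself _)]
    calc v = v + (v + coreAct q' v + coreAct q' (coreAct q' v)) := by rw [hrel, add_zero]
      _ = (v + v) + (coreAct q' (coreAct q' v) + coreAct q' v) := by abel
      _ = _ := by rw [hself, zero_add]
  have hke := (mem_center_core_iff hJ).mp (QuotientGroup.eq.mp hek)
  have hee : (e : G) = k * (((e⁻¹ * k : CoreT z) : G))⁻¹ := by
    push_cast; group
  rw [hee]
  rcases hke with h | h <;> rw [h]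
  · simpa using htk
  · rw [hE.inv_eq, ← mul_assoc, htk, mul_assoc, mem_cH.mp ht.1, mul_assoc]

/-- An element of `C_H(P)` with `2^8` fixed vectors centralizes `2^9` elements of the core. -/
theorem card_core_centralizer {q t : G} (hq : q ∈ P) (hq1 : q ≠ 1) (ht : t ∈ cC z P)
    (hfix : Nat.card {v : CoreV z // coreAct ⟨t, ht.1⟩ v = v} = 256) :
    Nat.card ↥(twoCoreOfCentralizer z ⊓ Subgroup.centralizer ({t} : Set G)) = 2 ^ 9 := by
  set E := twoCoreOfCentralizer z with hE
  set K : Subgroup (CoreT z) := (Subgroup.centralizer ({t} : Set G)).subgroupOf E with hK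
  have hcard : Nat.card ↥(E ⊓ Subgroup.centralizer ({t} : Set G)) = Nat.card K := by
    rw [hK, ← Subgroup.card_map_of_injective E.subtype_injective (K := K), hK,
      Subgroup.subgroupOf_map_subtype, inf_comm]
  rw [hcard]
  have hcen : Subgroup.center (CoreT z) ≤ K := by
    intro e he
    rw [hK, Subgroup.mem_subgroupOf, Subgroup.mem_centralizer_singleton_iff]
    rcases (mem_center_core_iff hJ).mp he with h | h <;> rw [h]
    · simp
    · exact (mem_cH.mp ht.1).symm
  have hmem : ∀ e : CoreT z, (e : CoreT z ⧸ Subgroup.center (CoreT z)) ∈ K.map (QuotientGroup.mk' _) ↔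
      coreAct ⟨t, ht.1⟩ (Additive.ofMul (e : CoreT z ⧸ Subgroup.center (CoreT z))) =
        Additive.ofMul (e : CoreT z ⧸ Subgroup.center (CoreT z)) := by
    intro e
    constructor
    · rintro ⟨f, hf, hfe⟩
      rw [QuotientGroup.mk'_apply] at hfe
      rw [← hfe, coreAct_mk]
      congr 2
      apply Subtype.ext
      rw [SetLike.mem_coe, hK, Subgroup.mem_subgroupOf, Subgroup.mem_centralizer_singleton_iff] at hf
      rw [coreConj_apply]
      show t * (f : G) * t⁻¹ = f
      rw [← hf, mul_inv_cancel_right]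
    · intro h
      refine ⟨e, ?_, rfl⟩
      rw [SetLike.mem_coe, hK, Subgroup.mem_subgroupOf, Subgroup.mem_centralizer_singleton_iff]
      exact (commute_of_coreAct_fix hJ hq hq1 ht h).symm
  have himg : Nat.card ↥(K.map (QuotientGroup.mk' (Subgroup.center (CoreT z)))) = 256 := by
    rw [← hfix]
    refine Nat.card_congr (Equiv.subtypeEquiv Additive.ofMul fun w => ?_)
    obtain ⟨e, rfl⟩ := QuotientGroup.mk_surjective w
    exact hmem e
  have h := Subgroup.card_mul_index K
  have h' := Subgroup.card_mul_index (K.map (QuotientGroup.mk' (Subgroup.center (CoreT z))))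
  rw [Subgroup.index_map_eq _ (QuotientGroup.mk'_surjective _)
    (by rwa [QuotientGroup.ker_mk']), himg] at h'
  have hq2 : Nat.card (CoreT z ⧸ Subgroup.center (CoreT z)) = 4096 := card_coreV hJ
  rw [hq2] at h'
  have hi : K.index = 16 := by omega
  rw [hi, card_core hJ] at h
  omega

/-- An involution of `C_H(P)` other than `z` centralizes a non-abelian subgroup of order `2^9` of the core. -/
theorem involution_core {t : G} (ht : t ∈ cC z P) (ht2 : orderOf t = 2) (htz : t ≠ z) :
    Nat.card ↥(twoCoreOfCentralizer z ⊓ Subgroup.centralizer ({t} : Set G)) = 2 ^ 9 ∧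
      ∃ a ∈ twoCoreOfCentralizer z ⊓ Subgroup.centralizer ({t} : Set G),
        ∃ b ∈ twoCoreOfCentralizer z ⊓ Subgroup.centralizer ({t} : Set G), a * b ≠ b * a := by
  obtain ⟨F⟩ := exists_frame' hJ
  obtain ⟨ρ, hρs, hρ⟩ := exists_rho hJ
  have hE := extraAt hJ
  set I2 : ↥(cC z P) := ⟨F.I ^ 2, pow_mem F.I_mem 2⟩
  set tc : ↥(cC z P) := ⟨t, ht⟩
  have h2 : orderOf (ρ tc) = 2 := by
    refine orderOf_eq_prime ?_ ?_
    · rw [← map_pow, show tc ^ 2 = 1 from Subtype.ext (by
        show t ^ 2 = 1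
        rw [← ht2, pow_orderOf_eq_one]), map_one]
    · intro e
      obtain ⟨p, hp, h | h⟩ := (hρ tc).mp e <;> change t = _ at h
      · have h3 := pow_three_P hJ hp
        rw [← h] at h3
        have hd := orderOf_dvd_of_pow_eq_one h3
        rw [ht2] at hd; norm_num at hd
      · have hp1 : p = 1 := by
          have hsq : t ^ 2 = 1 := by rw [← ht2, pow_orderOf_eq_one]
          rw [h, (show Commute p z from Subgroup.mem_centralizer_iff.mp (z_mem_centP hJ) p hp).mul_pow,
            sq z, hE.sq_one, mul_one] at hsq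
          have h3 := pow_three_P hJ hp
          rwa [pow_succ, hsq, one_mul] at h3
        rw [hp1, one_mul] at h
        exact htz h
  have hI : orderOf (ρ I2) = 2 := by
    refine orderOf_eq_prime ?_ fun e => ?_
    · rw [← map_pow, hρ]
      refine ⟨1, one_mem _, ?_⟩
      rw [one_mul]
      show (F.I ^ 2) ^ 2 = 1 ∨ (F.I ^ 2) ^ 2 = z
      rw [← pow_mul]
      exact F.I_four
    · obtain ⟨p, hp, h | h⟩ := (hρ I2).mp e
      exacts [(F.I_two p hp).1 h, (F.I_two p hp).2 h]
  obtain ⟨m, hm⟩ := isConj_iff.mp (MathieuAut22.isConj_of_orderOf_two hI h2)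
  obtain ⟨d, rfl⟩ := hρs m
  have hk : ρ (d * I2 * d⁻¹ * tc⁻¹) = 1 := by
    rw [map_mul, map_mul, map_mul, map_inv, map_inv, hm, mul_inv_cancel]
  obtain ⟨p, hp, hpk⟩ := (hρ _).mp hk
  obtain ⟨k, hk6, hkt⟩ : ∃ k, (∃ p ∈ P, k = p ∨ k = p * z) ∧ (d : G) * F.I ^ 2 * (d : G)⁻¹ = k * t :=
    ⟨((d * I2 * d⁻¹ * tc⁻¹ : ↥(cC z P)) : G), ⟨p, hp, hpk⟩, by
      show (d : G) * F.I ^ 2 * (d : G)⁻¹ = (d : G) * F.I ^ 2 * (d : G)⁻¹ * t⁻¹ * t
      rw [inv_mul_cancel_right]⟩
  have hkz : k = 1 ∨ k = z := by
    refine one_or_z_of_sq hJ hk6 ?_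
    have hsq : t ^ 2 = 1 := by rw [← ht2, pow_orderOf_eq_one]
    have h4 : (k * t) ^ 2 = 1 ∨ (k * t) ^ 2 = z := by
      rw [← hkt, conj_pow, ← pow_mul]
      rcases F.I_four with h | h <;> rw [h]
      · exact Or.inl (by simp)
      · exact Or.inr (by rw [mem_cH.mp d.2.1, mul_inv_cancel_right])
    rw [(commute_ker hJ hk6 ht).mul_pow, hsq, mul_one] at h4
    rcases h4 with h | h
    · exact h
    · exfalso
      have h6 := pow_six_ker hJ hk6
      rw [show (6 : ℕ) = 2 * 3 from rfl, pow_mul, h, pow_succ, sq, hE.sq_one, one_mul] at h6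
      exact hE.ne_one h6
  -- the fixed vectors of `t` are those of `d I² d⁻¹`
  have hfix : Nat.card {v : CoreV z // coreAct ⟨t, ht.1⟩ v = v} = 256 := by
    rw [← F.card_fixed_t hJ]
    set d' : ↥(cH z) := ⟨(d : G), d.2.1⟩
    set t0 : ↥(cH z) := ⟨F.I ^ 2, pow_mem F.I_mem.1 2⟩
    have hact : ∀ v, coreAct d' (coreAct t0 v) = coreAct ⟨t, ht.1⟩ (coreAct d' v) := by
      intro v
      rw [← coreAct_mul, ← coreAct_mul]
      have hkmem : k ∈ cH z := by
        rcases hkz with rfl | rfl
        exacts [one_mem _, mem_cH.mpr rfl]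
      calc coreAct (d' * t0) v = coreAct (⟨k, hkmem⟩ * (⟨t, ht.1⟩ * d')) v := coreAct_congr (by
            show (d : G) * F.I ^ 2 = k * (t * d)
            rw [← mul_assoc, ← hkt, inv_mul_cancel_right]) v
        _ = coreAct (⟨t, ht.1⟩ * d') v := by
            rw [coreAct_mul, coreAct_center hJ]
            exact hkz
    have hinv : ∀ v, coreAct d' (coreAct d'⁻¹ v) = v := fun v => by
      rw [← coreAct_mul]; exact coreAct_center hJ (Or.inl (by simp)) v
    have hinv' : ∀ v, coreAct d'⁻¹ (coreAct d' v) = v := fun v => by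
      rw [← coreAct_mul]; exact coreAct_center hJ (Or.inl (by simp)) v
    refine (Nat.card_congr ?_).symm
    refine Equiv.subtypeEquiv ⟨coreAct d', coreAct d'⁻¹, hinv', hinv⟩ fun v => ?_
    show coreAct t0 v = v ↔ coreAct ⟨t, ht.1⟩ (coreAct d' v) = coreAct d' v
    rw [← hact]
    exact ⟨fun h => by rw [h], fun h => by have := congrArg (coreAct d'⁻¹) h; rwa [hinv', hinv'] at this⟩
  have hcard := card_core_centralizer hJ F.q_mem F.q_ne ht hfix
  refine ⟨hcard, ?_⟩
  by_contra hab
  push Not at hab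
  set A : Subgroup (CoreT z) :=
    (Subgroup.centralizer ({t} : Set G)).subgroupOf (twoCoreOfCentralizer z)
  have hA : Nat.card A = 2 ^ 9 := by
    rw [← hcard, ← Subgroup.card_map_of_injective (twoCoreOfCentralizer z).subtype_injective (K := A),
      Subgroup.subgroupOf_map_subtype, inf_comm]
  haveI : Fact (Nat.Prime 2) := ⟨Nat.prime_two⟩
  have h := CfsgLib.PGroup.extraspecial_abelian_card hJ.2.1 A
    (isMulCommutative_iff.mpr fun a b =>
      Subtype.ext (Subtype.ext (hab _ ⟨a.1.2, a.2⟩ _ ⟨b.1.2, b.2⟩)))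
  rw [hA, card_core hJ] at h
  norm_num at h

end CfsgLib.J4Type86
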