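import Cfsg.Prelude.Def_JankoFourType
import Cfsg.Agent.Lib.LargeExtra.Extra
import Cfsg.Agent.Lib.MathieuAut22.Main

/-!
# First facts about the Janko-four-type centralizer

`H = E N_H(P)`, `|H| = 2^13 · 3 · 887040`, `N_E(P) = ⟨z⟩`, and `C_H(P)` maps onto `M22` with kernel
`⟨z⟩ × P`.
-/

set_option autoImplicit false

namespace CfsgLib.J4Type86

open Cfsg CfsgLib.LargeExtra
open scoped Pointwise

variable {G : Type*} [Group G] [Finite G] {z : G} {P : Subgroup G}

/-- The involution centralizer. -/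
abbrev cH (z : G) : Subgroup G := Subgroup.centralizer ({z} : Set G)

/-- The centralizer of `P` in the involution centralizer. -/
abbrev cC (z : G) (P : Subgroup G) : Subgroup G :=
  Subgroup.centralizer ({z} : Set G) ⊓ Subgroup.centralizer (P : Set G)

/-- The normalizer of `P` in the involution centralizer. -/
abbrev cM (z : G) (P : Subgroup G) : Subgroup G :=
  Subgroup.centralizer ({z} : Set G) ⊓ Subgroup.normalizer (P : Set G)

theorem mem_cH {g : G} : g ∈ cH z ↔ g * z = z * g := by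
  rw [cH, Subgroup.mem_centralizer_singleton_iff]

theorem core_le_cH : twoCoreOfCentralizer z ≤ cH z := Subgroup.map_subtype_le _

theorem core_conj_mem {h e : G} (hh : h ∈ cH z) (he : e ∈ twoCoreOfCentralizer z) :
    h * e * h⁻¹ ∈ twoCoreOfCentralizer z := by
  obtain ⟨f, hf, rfl⟩ := Subgroup.mem_map.mp he
  exact ⟨⟨h, hh⟩ * f * ⟨h, hh⟩⁻¹, (pCore_normal' 2 _).conj_mem f hf ⟨h, hh⟩, rfl⟩

theorem cH_le_normalizer_core : cH z ≤ Subgroup.normalizer (twoCoreOfCentralizer z : Set G) := by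
  intro h hh
  rw [Subgroup.mem_normalizer_iff]
  refine fun e => ⟨core_conj_mem hh, fun he => ?_⟩
  have := core_conj_mem (inv_mem hh) he
  simpa [mul_assoc] using this

section

variable (hJ : IsOfJankoFourTypeWith z P)
include hJ

theorem orderOf_z : orderOf z = 2 := hJ.1

theorem z_mem_core : z ∈ twoCoreOfCentralizer z := by
  have h := Subgroup.mem_zpowers z
  rw [← hJ.2.2.2.2.2.2.1] at h
  exact h.1

theorem z_mem_centP : z ∈ Subgroup.centralizer (P : Set G) := by
  have h := Subgroup.mem_zpowers z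
  rw [← hJ.2.2.2.2.2.2.1] at h
  exact h.2

theorem extraAt : ExtraAt (twoCoreOfCentralizer z) z := by
  obtain ⟨c, hc⟩ := ExtraAt.exists_of hJ.2.1
  rcases hc.central_cases (z_mem_core hJ) (fun q hq => mem_cH.mp (core_le_cH hq)) with e | e
  · have := hJ.1
    rw [e, orderOf_one] at this
    omega
  · subst e; exact hc

theorem card_core : Nat.card (twoCoreOfCentralizer z) = 2 ^ 13 := hJ.2.2.1

theorem card_P : Nat.card P = 3 := hJ.2.2.2.2.2.1

theorem P_le_cH : P ≤ cH z := by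
  obtain ⟨N, -, hNH, -, -, -, hPN⟩ := hJ.2.2.2.2.1
  exact hPN.trans hNH

theorem P_inf_core : P ⊓ twoCoreOfCentralizer z = ⊥ :=
  Subgroup.inf_eq_bot_of_coprime (by rw [card_P hJ, card_core hJ]; norm_num)

theorem P_le_cC : P ≤ cC z P := by
  refine le_inf (P_le_cH hJ) fun p hp => Subgroup.mem_centralizer_iff.mpr fun q hq => ?_
  haveI : IsCyclic P := by
    haveI : Fact (Nat.Prime 3) := ⟨Nat.prime_three⟩
    exact isCyclic_of_prime_card (card_P hJ)
  letI := IsCyclic.commGroup (α := P)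
  exact congrArg Subtype.val (mul_comm (⟨q, hq⟩ : P) ⟨p, hp⟩)

theorem z_mem_cC : z ∈ cC z P :=
  ⟨mem_cH.mpr rfl, z_mem_centP hJ⟩

/-- `N_E(P) = ⟨z⟩`. -/
theorem core_inf_normalizer {e : G} (he : e ∈ twoCoreOfCentralizer z)
    (hn : e ∈ Subgroup.normalizer (P : Set G)) : e ∈ Subgroup.zpowers z := by
  rw [← hJ.2.2.2.2.2.2.1]
  refine ⟨he, Subgroup.mem_centralizer_iff.mpr fun p hp => ?_⟩
  have h1 : e * p * e⁻¹ * p⁻¹ ∈ P := mul_mem ((Subgroup.mem_normalizer_iff.mp hn p).mp hp) (inv_mem hp)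
  have h2 : e * p * e⁻¹ * p⁻¹ ∈ twoCoreOfCentralizer z := by
    rw [show e * p * e⁻¹ * p⁻¹ = e * (p * e⁻¹ * p⁻¹) by group]
    exact mul_mem he (core_conj_mem (P_le_cH hJ hp) (inv_mem he))
  have h3 : e * p * e⁻¹ * p⁻¹ ∈ P ⊓ twoCoreOfCentralizer z := ⟨h1, h2⟩
  rw [P_inf_core hJ, Subgroup.mem_bot, mul_inv_eq_one, mul_inv_eq_iff_eq_mul] at h3
  exact h3.symm

/-- The subgroup `N` is `P E`, and there is a projection of `H` onto `Aut M22` with that kernel. -/
theorem exists_proj : ∃ π : ↥(cH z) →* MulAut ↥Spor.M22, Function.Surjective π ∧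
    ∀ h : ↥(cH z), π h = 1 ↔ ∃ p ∈ P, ∃ e ∈ twoCoreOfCentralizer z, (h : G) = p * e := by
  obtain ⟨N, hEN, hNH, -, hcard, ⟨hn, ⟨e⟩⟩, hPN⟩ := hJ.2.2.2.2.1
  have hN : P ⊔ twoCoreOfCentralizer z = N := by
    refine Subgroup.eq_of_le_of_card_ge (sup_le hPN hEN) ?_
    rw [hcard]
    refine Nat.le_of_dvd Nat.card_pos (Nat.Coprime.mul_dvd_of_dvd_of_dvd ?_ ?_
      (Subgroup.card_dvd_of_le le_sup_right))
    · rw [card_core hJ]; norm_num
    · have := Subgroup.card_dvd_of_le (le_sup_left (a := P) (b := twoCoreOfCentralizer z))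
      rwa [card_P hJ] at this
  refine ⟨e.toMonoidHom.comp (QuotientGroup.mk' _),
    e.surjective.comp (QuotientGroup.mk'_surjective _), fun h => ?_⟩
  have hprod : ((P ⊔ twoCoreOfCentralizer z : Subgroup G) : Set G) =
      (P : Set G) * (twoCoreOfCentralizer z : Set G) :=
    Subgroup.coe_mul_of_left_le_normalizer_right _ _ ((P_le_cH hJ).trans cH_le_normalizer_core)
  rw [MonoidHom.comp_apply, MulEquiv.coe_toMonoidHom, MulEquiv.map_eq_one_iff,
    QuotientGroup.mk'_apply, QuotientGroup.eq_one_iff, Subgroup.mem_subgroupOf, ← hN,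
    ← SetLike.mem_coe, hprod, Set.mem_mul]
  constructor
  · rintro ⟨p, hp, f, hf, hpf⟩
    exact ⟨p, hp, f, hf, hpf.symm⟩
  · rintro ⟨p, hp, f, hf, hpf⟩
    exact ⟨p, hp, f, hf, hpf.symm⟩

theorem card_cH : Nat.card ↥(cH z) = 2 ^ 13 * 3 * 887040 := by
  obtain ⟨N, -, hNH, -, hcard, ⟨hn, ⟨e⟩⟩, -⟩ := hJ.2.2.2.2.1
  rw [Subgroup.card_eq_card_quotient_mul_card_subgroup (N.subgroupOf (cH z)),
    Nat.card_congr e.toEquiv, MathieuAut22.natCard_mulAut_sporM22,
    Nat.card_congr (Subgroup.subgroupOfEquivOfLe hNH).toEquiv, hcard, card_core hJ]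
  ring

/-- `H = E N_H(P)`. -/
theorem exists_core_mul_normalizer {h : G} (hh : h ∈ cH z) :
    ∃ e ∈ twoCoreOfCentralizer z, e * h ∈ cM z P := by
  obtain ⟨N, hEN, hNH, hNn, hcard, -, hPN⟩ := hJ.2.2.2.2.1
  haveI : Fact (Nat.Prime 3) := ⟨Nat.prime_three⟩
  have hN2 : ∀ p ∈ P, h * p * h⁻¹ ∈ N := fun p hp =>
    (Subgroup.mem_normalizer_iff.mp (hNn hh) p).mp (hPN hp)
  have hsyl : ∀ Q : Subgroup G, Q ≤ N → Nat.card Q = 3 → ∃ S : Sylow 3 N, (S : Subgroup N) = Q.subgroupOf N := by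
    intro Q hQ hQc
    refine ⟨Sylow.ofCard (Q.subgroupOf N) ?_, rfl⟩
    rw [Nat.card_congr (Subgroup.subgroupOfEquivOfLe hQ).toEquiv, hQc, hcard, card_core hJ,
      Nat.factorization_mul (by norm_num) (by norm_num), Finsupp.add_apply,
      Nat.prime_three.factorization_self, Nat.Prime.factorization_pow Nat.prime_two,
      Finsupp.single_eq_of_ne (by norm_num)]
    norm_num
  have hQc : Nat.card (P.map (MulAut.conj h).toMonoidHom) = 3 := by
    rw [Subgroup.card_map_of_injective (MulAut.conj h).injective, card_P hJ]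
  obtain ⟨S, hS⟩ := hsyl P hPN (card_P hJ)
  obtain ⟨T, hT⟩ := hsyl (P.map (MulAut.conj h).toMonoidHom)
    (by rintro _ ⟨p, hp, rfl⟩; exact hN2 p hp) hQc
  obtain ⟨n, hn⟩ := MulAction.exists_smul_eq N T S
  have key : ∀ p ∈ P, (n : G) * (h * p * h⁻¹) * (n : G)⁻¹ ∈ P := by
    intro p hp
    have hmem : (⟨h * p * h⁻¹, hN2 p hp⟩ : N) ∈ (T : Subgroup N) := by
      rw [hT, Subgroup.mem_subgroupOf]
      exact ⟨p, hp, rfl⟩
    have h2 : n * ⟨h * p * h⁻¹, hN2 p hp⟩ * n⁻¹ ∈ (S : Subgroup N) := by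
      rw [← hn, Sylow.coe_subgroup_smul]
      exact Subgroup.mem_pointwise_smul_iff_inv_smul_mem.mpr (by simpa [mul_assoc] using hmem)
    rw [hS, Subgroup.mem_subgroupOf] at h2
    simpa using h2
  have hnorm : (n : G) * h ∈ Subgroup.normalizer (P : Set G) := by
    refine Subgroup.mem_normalizer_iff.mpr fun p => ⟨fun hp => ?_, fun hp => ?_⟩
    · have := key p hp
      simpa [mul_assoc] using this
    · -- the conjugation map of the finite set `P` is injective, hence onto
      have hm : (P.map (MulAut.conj ((n : G) * h)).toMonoidHom) = P := by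
        refine Subgroup.eq_of_le_of_card_ge ?_ ?_
        · rintro _ ⟨q, hq, rfl⟩
          have := key q hq
          simpa [mul_assoc] using this
        · rw [Subgroup.card_map_of_injective (MulAut.conj _).injective]
      rw [← hm] at hp
      obtain ⟨q, hq, hqe⟩ := hp
      have : q = p := (MulAut.conj ((n : G) * h)).injective hqe
      exact this ▸ hq
  obtain ⟨π, -, hπ⟩ := exists_proj hJ
  -- write `n = p e` and absorb `p`
  have hsup : (n : G) ∈ P ⊔ twoCoreOfCentralizer z := by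
    have hEP : P ⊔ twoCoreOfCentralizer z = N := by
      refine Subgroup.eq_of_le_of_card_ge (sup_le hPN hEN) ?_
      rw [hcard]
      refine Nat.le_of_dvd Nat.card_pos (Nat.Coprime.mul_dvd_of_dvd_of_dvd ?_ ?_
        (Subgroup.card_dvd_of_le le_sup_right))
      · rw [card_core hJ]; norm_num
      · have := Subgroup.card_dvd_of_le (le_sup_left (a := P) (b := twoCoreOfCentralizer z))
        rwa [card_P hJ] at this
    rw [hEP]; exact n.2
  rw [← SetLike.mem_coe, Subgroup.coe_mul_of_left_le_normalizer_right _ _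
    ((P_le_cH hJ).trans cH_le_normalizer_core), Set.mem_mul] at hsup
  obtain ⟨p, hp, e, he, hpe⟩ := hsup
  refine ⟨e, he, mul_mem (core_le_cH he) hh, ?_⟩
  have : e * h = p⁻¹ * ((n : G) * h) := by rw [← hpe]; group
  show e * h ∈ Subgroup.normalizer (P : Set G)
  rw [this]
  exact mul_mem (inv_mem (Subgroup.le_normalizer hp)) hnorm

/-- `C_H(P)` maps onto `M22` with kernel `⟨z⟩ × P`. -/
theorem exists_rho : ∃ ρ : ↥(cC z P) →* ↥Spor.M22, Function.Surjective ρ ∧
    ∀ c : ↥(cC z P), ρ c = 1 ↔ ∃ p ∈ P, (c : G) = p ∨ (c : G) = p * z := by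
  obtain ⟨π, hπs, hπ⟩ := exists_proj hJ
  set πM : ↥(cM z P) →* MulAut ↥Spor.M22 := π.comp (Subgroup.inclusion inf_le_left) with hπM
  have hπMs : Function.Surjective πM := by
    intro a
    obtain ⟨h, rfl⟩ := hπs a
    obtain ⟨e, he, heh⟩ := exists_core_mul_normalizer hJ h.2
    refine ⟨⟨e * h, heh⟩, ?_⟩
    show π ⟨e * h, heh.1⟩ = π h
    rw [show (⟨e * h, heh.1⟩ : ↥(cH z)) = ⟨e, core_le_cH he⟩ * h from rfl, map_mul,
      (hπ ⟨e, core_le_cH he⟩).mpr ⟨1, one_mem P, e, he, (one_mul e).symm⟩, one_mul]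
  have hCM : cC z P ≤ cM z P :=
    inf_le_inf_left _ (Subgroup.centralizer_le_normalizer ((P : Subgroup G) : Set G))
  set K : Subgroup ↥(cM z P) := (cC z P).subgroupOf (cM z P) with hK
  have hidx : K.index = 2 := by
    let ψ : ↥(cM z P) →* MulAut P := (P.normalizerMonoidHom).comp (Subgroup.inclusion inf_le_right)
    have hker : ψ.ker = K := by
      ext m
      rw [MonoidHom.mem_ker, hK, Subgroup.mem_subgroupOf]
      constructor
      · intro h
        refine ⟨m.2.1, Subgroup.mem_centralizer_iff.mpr fun p hp => ?_⟩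
        have := congrArg Subtype.val (DFunLike.congr_fun h ⟨p, hp⟩)
        exact (mul_inv_eq_iff_eq_mul.mp this).symm
      · intro h
        refine MulEquiv.ext fun p => Subtype.ext ?_
        have := Subgroup.mem_centralizer_iff.mp h.2 p p.2
        show (m : G) * p * (m : G)⁻¹ = p
        rw [← this, mul_inv_cancel_right]
    haveI : IsCyclic P := by
      haveI : Fact (Nat.Prime 3) := ⟨Nat.prime_three⟩
      exact isCyclic_of_prime_card (card_P hJ)
    have hdvd : K.index ∣ 2 := by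
      rw [← hker, Subgroup.index_ker]
      refine (Subgroup.card_subgroup_dvd_card _).trans (dvd_of_eq ?_)
      rw [IsCyclic.card_mulAut, card_P hJ]
      decide
    refine ((Nat.dvd_prime Nat.prime_two).mp hdvd).resolve_left fun h1 => ?_
    refine hJ.2.2.2.2.2.2.2.1 (le_antisymm ?_ hCM)
    rw [Subgroup.index_eq_one] at h1
    intro g hg
    have : (⟨g, hg⟩ : ↥(cM z P)) ∈ K := h1 ▸ Subgroup.mem_top _
    exact this
  have hkerK : πM.ker ≤ K := by
    intro m hm
    obtain ⟨p, hp, e, he, hpe⟩ := (hπ ⟨m, m.2.1⟩).mp hm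
    have heN : e ∈ Subgroup.normalizer (P : Set G) := by
      rw [show e = p⁻¹ * (m : G) by rw [show (m : G) = p * e from hpe]; group]
      exact mul_mem (inv_mem (Subgroup.le_normalizer hp)) m.2.2
    rw [hK, Subgroup.mem_subgroupOf, show (m : G) = p * e from hpe]
    exact mul_mem (P_le_cC hJ hp)
      (Subgroup.zpowers_le.mpr (z_mem_cC hJ) (core_inf_normalizer hJ he heN))
  have himg : (K.map πM).index = 2 := by
    rw [Subgroup.index_map, sup_eq_left.mpr hkerK, hidx, MonoidHom.range_eq_top.mpr hπMs,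
      Subgroup.index_top, mul_one]
  have hrange : (π.comp (Subgroup.inclusion (inf_le_left : cC z P ≤ cH z))).range =
      (MulAut.conj : ↥Spor.M22 →* MulAut ↥Spor.M22).range := by
    rw [← MathieuAut22.eq_inn_of_index_two himg]
    ext a
    constructor
    · rintro ⟨c, rfl⟩
      exact ⟨⟨c, hCM c.2⟩, c.2, rfl⟩
    · rintro ⟨m, hm, rfl⟩
      exact ⟨⟨m, hm⟩, rfl⟩
  let ι := MonoidHom.ofInjective MathieuAut22.conj_injective
  let ρ : ↥(cC z P) →* ↥Spor.M22 :=
    ι.symm.toMonoidHom.comp ((MulEquiv.subgroupCongr hrange).toMonoidHom.comp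
      (π.comp (Subgroup.inclusion (inf_le_left : cC z P ≤ cH z))).rangeRestrict)
  refine ⟨ρ, ι.symm.surjective.comp ((MulEquiv.subgroupCongr hrange).surjective.comp
    (MonoidHom.rangeRestrict_surjective _)), fun c => ?_⟩
  have h1 : ρ c = 1 ↔ π ⟨c, c.2.1⟩ = 1 := by
    rw [MonoidHom.comp_apply, MonoidHom.comp_apply, MulEquiv.coe_toMonoidHom,
      MulEquiv.coe_toMonoidHom, MulEquiv.map_eq_one_iff, MulEquiv.map_eq_one_iff, Subtype.ext_iff]
    exact Iff.rfl
  rw [h1, hπ]
  constructor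
  · rintro ⟨p, hp, e, he, hpe⟩
    refine ⟨p, hp, ?_⟩
    have hec : e ∈ Subgroup.normalizer (P : Set G) := by
      rw [show e = p⁻¹ * (c : G) by rw [show (c : G) = p * e from hpe]; group]
      exact mul_mem (inv_mem (Subgroup.le_normalizer hp))
        (Subgroup.centralizer_le_normalizer ((P : Subgroup G) : Set G) c.2.2)
    rcases (extraAt hJ).mem_zpowers_z.mp (core_inf_normalizer hJ he hec) with rfl | h
    · exact Or.inl (by rw [show (c : G) = p * 1 from hpe, mul_one])
    · exact Or.inr (by rw [show (c : G) = p * e from hpe, h])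
  · rintro ⟨p, hp, h | h⟩
    · exact ⟨p, hp, 1, one_mem _, by rw [mul_one]; exact h⟩
    · exact ⟨p, hp, z, z_mem_core hJ, h⟩

end

end CfsgLib.J4Type86
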