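import Cfsg.Agent.Lib.J4Type86.Basic
import Cfsg.Agent.Lib.MathieuAut22.Local

/-!
# The Sylow 3-frame of `C_H(P)`

There are `X, Y = I X I⁻¹` of order 3 with `I Y I⁻¹ = X⁻¹` whose commutator is a generator of `P`
(transfer: `P` lies in the commutator subgroup), and `I⁴ ∈ ⟨z⟩`.
-/

set_option autoImplicit false

namespace CfsgLib.J4Type86

open Cfsg CfsgLib.LargeExtra
open scoped Pointwise

variable {G : Type*} [Group G] [Finite G]

theorem zmod_three_sq : ∀ u : ZMod 3, u * u + 1 = 0 → False := by decide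

/-- The frame of a Sylow 3-subgroup of `C_H(P)`. -/
structure Frame (z : G) (P : Subgroup G) where
  X : G
  Y : G
  I : G
  q : G
  X_mem : X ∈ cC z P
  I_mem : I ∈ cC z P
  q_mem : q ∈ P
  q_ne : q ≠ 1
  Y_def : I * X * I⁻¹ = Y
  X_cube : X ^ 3 = 1
  I_Y : I * Y * I⁻¹ = X⁻¹
  comm : X * Y = q * (Y * X)
  I_four : I ^ 4 = 1 ∨ I ^ 4 = z
  I_two : ∀ p ∈ P, I ^ 2 ≠ p ∧ I ^ 2 ≠ p * z

variable {z : G} {P : Subgroup G} (hJ : IsOfJankoFourTypeWith z P)
include hJ

theorem pow_three_P {p : G} (hp : p ∈ P) : p ^ 3 = 1 := by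
  have h : (⟨p, hp⟩ : P) ^ 3 = 1 := by rw [← card_P hJ]; exact pow_card_eq_one'
  exact congrArg Subtype.val h

theorem pow_six_ker {k : G} (hk : ∃ p ∈ P, k = p ∨ k = p * z) : k ^ 6 = 1 := by
  obtain ⟨p, hp, hk'⟩ := hk
  rcases hk' with rfl | rfl
  · rw [pow_mul _ 3 2, pow_three_P hJ hp, one_pow]
  · have hc : Commute p z := Subgroup.mem_centralizer_iff.mp (z_mem_centP hJ) p hp
    rw [hc.mul_pow, pow_mul p 3 2, pow_three_P hJ hp, one_pow, one_mul, pow_mul z 2 3, sq,
      (extraAt hJ).sq_one, one_pow]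

theorem mem_P_of_pow {k : G} (hk : ∃ p ∈ P, k = p ∨ k = p * z) {n : ℕ} (hn : Odd n)
    (h : k ^ n = 1) : k ∈ P := by
  obtain ⟨p, hp, rfl | rfl⟩ := hk
  · exact hp
  · exfalso
    have hc : Commute p z := Subgroup.mem_centralizer_iff.mp (z_mem_centP hJ) p hp
    obtain ⟨m, rfl⟩ := hn
    rw [hc.mul_pow, pow_succ z (2 * m), pow_mul z, sq, (extraAt hJ).sq_one, one_pow, one_mul,
      mul_eq_one_iff_eq_inv'] at h
    have hzP : z ∈ P := by rw [h]; exact inv_mem (pow_mem hp _)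
    have := P_inf_core hJ ▸ (Subgroup.mem_inf.mpr ⟨hzP, z_mem_core hJ⟩)
    exact (extraAt hJ).ne_one (Subgroup.mem_bot.mp this)

theorem one_or_z_of_sq {k : G} (hk : ∃ p ∈ P, k = p ∨ k = p * z) (h : k ^ 2 = 1) :
    k = 1 ∨ k = z := by
  obtain ⟨p, hp, hk'⟩ := hk
  have h3 := pow_three_P hJ hp
  have hc : Commute p z := Subgroup.mem_centralizer_iff.mp (z_mem_centP hJ) p hp
  have hp2 : p ^ 2 = 1 := by
    rcases hk' with rfl | rfl
    · exact h
    · rwa [hc.mul_pow, sq z, (extraAt hJ).sq_one, mul_one] at h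
  have hp1 : p = 1 := by
    rw [pow_succ, hp2, one_mul] at h3
    exact h3
  subst hp1
  simpa using hk'

theorem commute_ker {k c : G} (hk : ∃ p ∈ P, k = p ∨ k = p * z) (hc : c ∈ cC z P) : Commute k c := by
  obtain ⟨p, hp, hk'⟩ := hk
  have h1 : Commute p c := Subgroup.mem_centralizer_iff.mp hc.2 p hp
  rcases hk' with rfl | rfl
  · exact h1
  · exact h1.mul_left (mem_cH.mp hc.1).symm

theorem exists_frame' : Nonempty (Frame z P) := by
  classical
  obtain ⟨ρ, hρs, hρ⟩ := exists_rho hJ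
  obtain ⟨x, y, i, hx3, hx1, hxy, hix, hiy, hi4, hi2⟩ := MathieuAut22.exists_frame
  have hker : ∀ c : ↥(cC z P), ρ c = 1 → ∃ p ∈ P, (c : G) = p ∨ (c : G) = p * z :=
    fun c h => (hρ c).mp h
  -- lifts of `3`- and `2`-power order
  obtain ⟨c, hc⟩ := hρs x
  obtain ⟨d, hd⟩ := hρs i
  set X0 : ↥(cC z P) := c ^ 4 with hX0
  set I : ↥(cC z P) := d ^ 9 with hI
  have hρX0 : ρ X0 = x := by rw [hX0, map_pow, hc, pow_succ, hx3, one_mul]
  have hρI : ρ I = i := by rw [hI, map_pow, hd, pow_succ, pow_mul i 4 2, hi4, one_pow, one_mul]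
  have hc18 : (c : G) ^ 18 = 1 := by
    rw [pow_mul (c : G) 3 6]
    exact pow_six_ker hJ (hker (c ^ 3) (by rw [map_pow, hc, hx3]))
  have hd24 : (d : G) ^ 24 = 1 := by
    rw [pow_mul (d : G) 4 6]
    exact pow_six_ker hJ (hker (d ^ 4) (by rw [map_pow, hd, hi4]))
  have hX9 : (X0 : G) ^ 9 = 1 := by
    rw [hX0, SubmonoidClass.coe_pow, ← pow_mul, show 4 * 9 = 18 * 2 from rfl, pow_mul, hc18, one_pow]
  have hX3P : (X0 : G) ^ 3 ∈ P := by
    have hk := hker (X0 ^ 3) (by rw [map_pow, hρX0, hx3])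
    rw [SubmonoidClass.coe_pow] at hk
    exact mem_P_of_pow hJ hk (n := 3) (by decide) (by rw [← pow_mul]; exact hX9)
  have hI4 : (I : G) ^ 4 = 1 ∨ (I : G) ^ 4 = z := by
    have hk := hker (I ^ 4) (by rw [map_pow, hρI, hi4])
    rw [SubmonoidClass.coe_pow] at hk
    refine one_or_z_of_sq hJ hk ?_
    rw [hI, SubmonoidClass.coe_pow, ← pow_mul, ← pow_mul, show 9 * (4 * 2) = 24 * 3 from rfl,
      pow_mul, hd24, one_pow]
  set Y0 : ↥(cC z P) := I * X0 * I⁻¹ with hY0
  have hρY0 : ρ Y0 = y := by rw [hY0, map_mul, map_mul, map_inv, hρI, hρX0, hix]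
  set k : G := (I : G) * Y0 * (I : G)⁻¹ * X0 with hk
  have hkk : ∃ p ∈ P, k = p ∨ k = p * z :=
    hker (I * Y0 * I⁻¹ * X0) (by
      rw [map_mul, map_mul, map_mul, map_inv, hρI, hρY0, hρX0, hiy, inv_mul_cancel])
  have hY0c : (Y0 : G) = (I : G) * X0 * (I : G)⁻¹ := rfl
  clear_value k
  have hIp : ∀ p ∈ P, (I : G) * p * (I : G)⁻¹ = p := fun p hp => by
    rw [← Subgroup.mem_centralizer_iff.mp I.2.2 p hp, mul_inv_cancel_right]
  have hconj : ∀ n : ℕ, ((I : G) * Y0 * (I : G)⁻¹) ^ n = k ^ n * ((X0 : G) ^ n)⁻¹ := fun n => by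
    rw [show (I : G) * Y0 * (I : G)⁻¹ = k * (X0 : G)⁻¹ by rw [hk]; group,
      ((commute_ker hJ hkk X0.2).inv_right).mul_pow, inv_pow]
  have hY9 : ∀ n : ℕ, ((I : G) * Y0 * (I : G)⁻¹) ^ n = (I : G) * ((I : G) * (X0 : G) ^ n * (I : G)⁻¹) * (I : G)⁻¹ :=
    fun n => by rw [conj_pow, hY0c, conj_pow]
  have hkP : k ∈ P := by
    refine mem_P_of_pow hJ hkk (n := 9) (by decide) ?_
    have h := hconj 9
    rw [hY9, hX9, inv_one, mul_one, mul_one, mul_inv_cancel, mul_one, mul_inv_cancel] at h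
    exact h.symm
  have hX3 : (X0 : G) ^ 3 = 1 := by
    have h := hconj 3
    rw [hY9, hIp _ hX3P, hIp _ hX3P, pow_three_P hJ hkP, one_mul] at h
    have h6 : (X0 : G) ^ 6 = 1 := by
      rw [pow_mul _ 3 2, sq]
      exact eq_inv_iff_mul_eq_one.mp h
    calc (X0 : G) ^ 3 = (X0 : G) ^ 9 := by rw [show 9 = 6 + 3 from rfl, pow_add, h6, one_mul]
      _ = 1 := hX9
  have hkc : ∀ g ∈ cC z P, Commute k g := fun g hg => commute_ker hJ hkk hg
  -- corrected lift
  set X : G := (X0 : G) * k with hX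
  have hXmem : X ∈ cC z P := mul_mem X0.2 (P_le_cC hJ hkP)
  set Y : G := (I : G) * X * (I : G)⁻¹ with hY
  have hYmem : Y ∈ cC z P := mul_mem (mul_mem I.2 hXmem) (inv_mem I.2)
  have hX1 : X ^ 3 = 1 := by
    rw [hX, ((hkc _ X0.2).symm).mul_pow, hX3, pow_three_P hJ hkP, one_mul]
  have hYk : Y = (Y0 : G) * k := by
    rw [hY, hX, hY0c, mul_assoc ((I : G)), mul_assoc (X0 : G),
      (hkc _ (inv_mem I.2)).eq, ← mul_assoc (X0 : G), ← mul_assoc]
    group
  have hIY : (I : G) * Y * (I : G)⁻¹ = X⁻¹ := by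
    have e0 : (I : G) * Y0 * (I : G)⁻¹ = k * (X0 : G)⁻¹ := by rw [hk]; group
    have hkk2 : k * k = k⁻¹ :=
      eq_inv_of_mul_eq_one_left (by rw [mul_assoc, ← pow_three, pow_three_P hJ hkP])
    calc (I : G) * Y * (I : G)⁻¹ = ((I : G) * Y0 * (I : G)⁻¹) * ((I : G) * k * (I : G)⁻¹) := by
          rw [hYk]; group
      _ = k * (X0 : G)⁻¹ * k := by rw [e0, hIp k hkP]
      _ = (k * k) * (X0 : G)⁻¹ := by
          rw [mul_assoc, ← (hkc _ (inv_mem X0.2)).eq, mul_assoc]
      _ = X⁻¹ := by rw [hkk2, hX, mul_inv_rev]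
  have hρX : ρ ⟨X, hXmem⟩ = x := by
    rw [show (⟨X, hXmem⟩ : ↥(cC z P)) = X0 * ⟨k, P_le_cC hJ hkP⟩ from rfl, map_mul, hρX0,
      (hρ ⟨k, _⟩).mpr ⟨k, hkP, Or.inl rfl⟩, mul_one]
  have hρY : ρ ⟨Y, hYmem⟩ = y := by
    rw [show (⟨Y, hYmem⟩ : ↥(cC z P)) = I * ⟨X, hXmem⟩ * I⁻¹ from rfl, map_mul, map_mul, map_inv,
      hρI, hρX, hix]
  set q : G := X * Y * X⁻¹ * Y⁻¹ with hq
  have hqk : ∃ p ∈ P, q = p ∨ q = p * z :=
    hker (⟨X, hXmem⟩ * ⟨Y, hYmem⟩ * ⟨X, hXmem⟩⁻¹ * ⟨Y, hYmem⟩⁻¹) (by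
      rw [map_mul, map_mul, map_mul, map_inv, map_inv, hρX, hρY, hxy, mul_assoc y,
        mul_inv_cancel, mul_one, mul_inv_cancel])
  have hqP : q ∈ P := by
    refine mem_P_of_pow hJ hqk (n := 3) (by decide) ?_
    have h : (X * Y * X⁻¹) ^ 3 = (q * Y) ^ 3 := by rw [hq]; group
    have hY3 : Y ^ 3 = 1 := by rw [hY, conj_pow, hX1, mul_one, mul_inv_cancel]
    rw [conj_pow, (commute_ker hJ hqk hYmem).mul_pow, hY3, mul_one, mul_one, mul_inv_cancel] at h
    exact h.symm
  have hq1 : q ≠ 1 := by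
    intro hq0
    have hXY : X * Y = Y * X := by
      rw [hq, mul_inv_eq_one, mul_inv_eq_iff_eq_mul] at hq0
      exact hq0
    -- the Sylow 3-subgroup would be abelian; transfer kills `P`
    set S : Set ↥(cC z P) := {⟨X, hXmem⟩, ⟨Y, hYmem⟩} ∪ {g | (g : G) ∈ P} with hS
    set R : Subgroup ↥(cC z P) := Subgroup.closure S with hR
    have hScomm : ∀ a ∈ S, ∀ b ∈ S, a * b = b * a := by
      intro a ha b hb
      apply Subtype.ext
      show (a : G) * b = (b : G) * a
      rcases ha with (rfl | rfl) | ha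
      · rcases hb with (rfl | rfl) | hb
        exacts [rfl, hXY, (commute_ker hJ ⟨(b : G), hb, Or.inl rfl⟩ hXmem).symm]
      · rcases hb with (rfl | rfl) | hb
        exacts [hXY.symm, rfl, (commute_ker hJ ⟨(b : G), hb, Or.inl rfl⟩ hYmem).symm]
      · exact commute_ker hJ ⟨(a : G), ha, Or.inl rfl⟩ b.2
    letI : CommGroup R :=
      { (inferInstance : Group R) with
        mul_comm := by
          haveI := Subgroup.isMulCommutative_closure hScomm
          exact fun a b => setLike_mul_comm a.2 b.2 |> fun h => Subtype.ext h }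
    -- order of the kernel
    have hK : Nat.card ρ.ker = 3 ∨ Nat.card ρ.ker = 6 := by
      have hle : Nat.card ρ.ker ≤ 6 := by
        have h := Nat.card_le_card_of_injective
          (β := ↥((P : Set G) * (Subgroup.zpowers z : Set G)))
          (fun g : ρ.ker => ⟨((g : ↥(cC z P)) : G), by
            obtain ⟨p, hp, e | e⟩ := hker g g.2
            · exact Set.mem_mul.mpr ⟨p, hp, 1, one_mem _, by rw [mul_one, e]⟩
            · exact Set.mem_mul.mpr ⟨p, hp, z, Subgroup.mem_zpowers z, e.symm⟩⟩)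
          fun a b h => Subtype.ext (Subtype.ext (congrArg Subtype.val h :))
        refine h.trans (Set.natCard_mul_le.trans ?_)
        show Nat.card P * Nat.card (Subgroup.zpowers z) ≤ 6
        rw [card_P hJ, Nat.card_zpowers, hJ.1]
      have h3 : 3 ∣ Nat.card ρ.ker := by
        rw [← card_P hJ, ← Nat.card_congr (Subgroup.subgroupOfEquivOfLe (P_le_cC hJ)).toEquiv]
        exact Subgroup.card_dvd_of_le fun g hg => (hρ g).mpr ⟨(g : G), hg, Or.inl rfl⟩
      have := Nat.card_pos (α := ρ.ker)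
      omega
    have h27 : 27 ∣ Nat.card R := by
      rw [Subgroup.card_eq_card_quotient_mul_card_subgroup (ρ.comp R.subtype).ker,
        Nat.card_congr (QuotientGroup.quotientKerEquivRange (ρ.comp R.subtype)).toEquiv]
      refine (show 27 = 9 * 3 from rfl) ▸ Nat.mul_dvd_mul ?_ ?_
      · set K9 := Subgroup.closure ({x, y} : Set ↥Spor.M22) with hK9
        have hle : K9 ≤ (ρ.comp R.subtype).range := by
          rw [hK9, Subgroup.closure_le]
          rintro g (rfl | rfl)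
          · exact ⟨⟨_, Subgroup.subset_closure (Or.inl (Or.inl rfl))⟩, hρX⟩
          · exact ⟨⟨_, Subgroup.subset_closure (Or.inl (Or.inr rfl))⟩, hρY⟩
        refine dvd_trans ?_ (Subgroup.card_dvd_of_le hle)
        haveI : Fact (Nat.Prime 3) := ⟨Nat.prime_three⟩
        have hcomm9 : ∀ a ∈ ({x, y} : Set ↥Spor.M22), ∀ b ∈ ({x, y} : Set ↥Spor.M22), a * b = b * a := by
          rintro a (rfl | rfl) b (rfl | rfl)
          exacts [rfl, hxy, hxy.symm, rfl]
        have hy3 : y ^ 3 = 1 := by rw [← hix, conj_pow, hx3, mul_one, mul_inv_cancel]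
        have hexp : ∀ g ∈ K9, g ^ 3 = 1 := by
          intro g hg
          haveI := Subgroup.isMulCommutative_closure hcomm9
          induction hg using Subgroup.closure_induction with
          | mem g hg => rcases hg with rfl | rfl <;> assumption
          | one => exact one_pow 3
          | mul a b ha hb h1 h2 =>
            rw [Commute.mul_pow (setLike_mul_comm ha hb), h1, h2, one_mul]
          | inv a _ h1 => rw [inv_pow, h1, inv_one]
        have hp : IsPGroup 3 K9 := fun g => ⟨1, Subtype.ext (by simpa using hexp g g.2)⟩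
        obtain ⟨n, hn⟩ := IsPGroup.iff_card.mp hp
        rw [hn]
        rcases Nat.lt_or_ge n 2 with hlt | hge
        · exfalso
          have hxK : x ∈ K9 := Subgroup.subset_closure (Or.inl rfl)
          have hox : orderOf x = 3 := orderOf_eq_prime hx3 hx1
          have heq : Subgroup.zpowers x = K9 :=
            Subgroup.eq_of_le_of_card_ge (Subgroup.zpowers_le.mpr hxK) (by
              rw [hn, Nat.card_zpowers, hox]
              exact (Nat.pow_le_pow_right (by norm_num) (Nat.le_of_lt_succ hlt)).trans (by norm_num))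
          have hyK : y ∈ Subgroup.zpowers x := heq ▸ Subgroup.subset_closure (Or.inr rfl)
          obtain ⟨m, hm⟩ := Subgroup.mem_zpowers_iff.mp hyK
          have h1 : i * y * i⁻¹ = x ^ (m * m) := by
            rw [← hm, ← conj_zpow, hix, ← hm, zpow_mul]
          rw [hiy] at h1
          have h2 : x ^ (m * m + 1) = 1 := by rw [zpow_add_one, ← h1, inv_mul_cancel]
          rw [← orderOf_dvd_iff_zpow_eq_one, hox] at h2
          have h3 : (((m * m + 1 : ℤ)) : ZMod 3) = 0 := (ZMod.intCast_zmod_eq_zero_iff_dvd _ 3).mpr h2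
          push_cast at h3
          exact zmod_three_sq _ h3
        · exact dvd_trans (by norm_num) (pow_dvd_pow 3 hge)
      · rw [← card_P hJ]
        let f : P → (ρ.comp R.subtype).ker := fun p =>
          ⟨⟨⟨(p : G), P_le_cC hJ p.2⟩, Subgroup.subset_closure (Or.inr p.2)⟩,
            (hρ ⟨(p : G), P_le_cC hJ p.2⟩).mpr ⟨(p : G), p.2, Or.inl rfl⟩⟩
        let g : P →* (ρ.comp R.subtype).ker :=
          { toFun := f, map_one' := rfl, map_mul' := fun _ _ => rfl }
        have hg : Function.Injective g := fun a b h =>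
          Subtype.ext (congrArg (fun u : (ρ.comp R.subtype).ker => (((u : R) : ↥(cC z P)) : G)) h)
        exact Subgroup.card_dvd_of_injective g hg
    have hidx : ¬ 3 ∣ R.index := by
      intro h3
      have h := mul_dvd_mul h27 h3
      rw [Subgroup.card_mul_index,
        Subgroup.card_eq_card_quotient_mul_card_subgroup ρ.ker,
        Nat.card_congr (QuotientGroup.quotientKerEquivOfSurjective ρ hρs).toEquiv,
        CfsgLib.Golay.natCard_sporM22] at h
      rcases hK with e | e <;> rw [e] at h <;> norm_num at h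
    obtain ⟨p, hp, hp1⟩ : ∃ p ∈ P, p ≠ 1 := by
      by_contra hall
      push Not at hall
      have hbot : P = ⊥ := (Subgroup.eq_bot_iff_forall _).mpr hall
      have := card_P hJ
      rw [hbot, Subgroup.card_bot] at this
      omega
    set pc : ↥(cC z P) := ⟨p, P_le_cC hJ hp⟩
    have htr := MonoidHom.transfer_eq_pow (MonoidHom.id R) pc (fun n g₀ _ => by
      apply Subtype.ext
      have := (commute_ker hJ ⟨p, hp, Or.inl rfl⟩ g₀.2).pow_left n
      show (g₀ : G)⁻¹ * p ^ n * g₀ = p ^ n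
      rw [mul_assoc, this.eq, ← mul_assoc, inv_mul_cancel, one_mul])
    have hin : pc ∈ (MonoidHom.transfer (MonoidHom.id R)).ker := by
      refine Abelianization.commutator_subset_ker _ ?_
      have h := hJ.2.2.2.2.2.2.2.2 hp
      rw [← Subgroup.map_subtype_commutator] at h
      obtain ⟨u, hu, hue⟩ := h
      rwa [show pc = u from Subtype.ext hue.symm]
    rw [MonoidHom.mem_ker, htr, MonoidHom.id_apply, Subtype.ext_iff, Subtype.ext_iff] at hin
    have hpow : p ^ R.index = 1 := hin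
    rw [← orderOf_dvd_iff_pow_eq_one, orderOf_eq_prime (pow_three_P hJ hp) hp1] at hpow
    exact hidx hpow
  refine ⟨⟨X, Y, I, q, hXmem, I.2, hqP, hq1, rfl, hX1, hIY, ?_, hI4, fun p hp => ⟨?_, ?_⟩⟩⟩
  · rw [hq]; group
  · intro e
    refine hi2 ?_
    rw [← hρI, ← map_pow]
    exact (hρ _).mpr ⟨p, hp, Or.inl (by rw [SubmonoidClass.coe_pow, e])⟩
  · intro e
    refine hi2 ?_
    rw [← hρI, ← map_pow]
    exact (hρ _).mpr ⟨p, hp, Or.inr (by rw [SubmonoidClass.coe_pow, e])⟩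

end CfsgLib.J4Type86
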