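import Cfsg.Agent.Lib.J4Type86.Involution
import Cfsg.Agent.Lib.Involutions.BrauerSuzuki

/-!
# `z` is isolated in `C_G(P)`

No other conjugate of `z` under `C_G(P)` lies in `C_H(P)`: the centralizer of such an involution in
the core would be abelian.
-/

set_option autoImplicit false

namespace CfsgLib.J4Type86

open Cfsg CfsgLib.LargeExtra
open scoped Pointwise

variable {G : Type*} [Group G] [Finite G] {z : G} {P : Subgroup G}
  (hJ : IsOfJankoFourTypeWith z P)
include hJ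

/-- `e ≡ [q, q e q⁻¹]` modulo `⟨z⟩`. -/
theorem core_eq_comm {q : G} (hq : q ∈ P) (hq1 : q ≠ 1) {e : G} (he : e ∈ twoCoreOfCentralizer z) :
    e = q * (q * e * q⁻¹) * q⁻¹ * (q * e * q⁻¹)⁻¹ ∨
      e = q * (q * e * q⁻¹) * q⁻¹ * (q * e * q⁻¹)⁻¹ * z := by
  letI : CommGroup (CoreT z ⧸ Subgroup.center (CoreT z)) :=
    { (inferInstance : Group (CoreT z ⧸ Subgroup.center (CoreT z))) with mul_comm := coreV_comm hJ }
  set q' : ↥(cH z) := ⟨q, P_le_cH hJ hq⟩
  set e' : CoreT z := ⟨e, he⟩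
  set f : CoreT z := coreConj q' e' with hfd
  set k : CoreT z := coreConj q' f * f⁻¹ with hkd
  set v : CoreV z := Additive.ofMul (e' : CoreT z ⧸ Subgroup.center (CoreT z))
  have hself : ∀ u : CoreV z, u + u = 0 := fun u => by
    obtain ⟨w, rfl⟩ := Additive.ofMul.surjective u
    exact congrArg Additive.ofMul (coreV_mul_self hJ w)
  have h3 : ∀ u : CoreV z, coreAct q' (coreAct q' (coreAct q' u)) = u := fun u => by
    rw [← coreAct_mul, ← coreAct_mul]
    refine coreAct_center hJ (Or.inl ?_) u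
    show q * q * q = 1
    rw [mul_assoc, ← pow_three, pow_three_P hJ hq]
  have hrel : v + coreAct q' v + coreAct q' (coreAct q' v) = 0 := by
    refine coreAct_q_fix hJ hq hq1 ?_
    rw [map_add, map_add, h3]
    abel
  have hek : (k : CoreT z ⧸ Subgroup.center (CoreT z)) = e' := by
    apply Additive.ofMul.injective
    rw [hkd, QuotientGroup.mk_mul, QuotientGroup.mk_inv, ofMul_mul, ofMul_inv, ← coreAct_mk, hfd,
      ← coreAct_mk]
    show coreAct q' (coreAct q' v) + -coreAct q' v = v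
    rw [neg_eq_of_add_eq_zero_left (hself _)]
    calc coreAct q' (coreAct q' v) + coreAct q' v
        = (v + v) + (coreAct q' (coreAct q' v) + coreAct q' v) := by rw [hself, zero_add]
      _ = v + (v + coreAct q' v + coreAct q' (coreAct q' v)) := by abel
      _ = v := by rw [hrel, add_zero]
  have hk : (k : G) = q * (q * e * q⁻¹) * q⁻¹ * (q * e * q⁻¹)⁻¹ := rfl
  rw [← hk]
  rcases (mem_center_core_iff hJ).mp (QuotientGroup.eq.mp hek) with h | h
  · exact Or.inl (inv_mul_eq_one.mp h).symm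
  · exact Or.inr (inv_mul_eq_iff_eq_mul.mp h)

/-- No conjugate of `z` under `C_G(P)` other than `z` lies in `C_H(P)`. -/
theorem isolated {g : G} (hg : g ∈ Subgroup.centralizer (P : Set G))
    (hmem : g * z * g⁻¹ ∈ cH z) : g * z * g⁻¹ = z := by
  by_contra hne
  have hE := extraAt hJ
  set t := g * z * g⁻¹ with ht
  have htC : t ∈ cC z P :=
    ⟨hmem, (mul_mem (mul_mem hg (z_mem_centP hJ)) (inv_mem hg) : g * z * g⁻¹ ∈ Subgroup.centralizer (P : Set G))⟩
  have ht2 : orderOf t = 2 := by rw [ht, ← MulAut.conj_apply, MulEquiv.orderOf_eq, hJ.1]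
  obtain ⟨-, a, ha, b, hb, hab⟩ := involution_core hJ htC ht2 hne
  obtain ⟨q, hq, hq1⟩ : ∃ q ∈ P, q ≠ 1 := by
    by_contra hall
    push Not at hall
    have hbot : P = ⊥ := (Subgroup.eq_bot_iff_forall _).mpr hall
    have := card_P hJ
    rw [hbot, Subgroup.card_bot] at this
    omega
  have hgp : ∀ p ∈ P, g⁻¹ * p * g = p := fun p hp => by
    rw [mul_assoc, Subgroup.mem_centralizer_iff.mp hg p hp, inv_mul_cancel_left]
  obtain ⟨π, -, hπ⟩ := exists_proj hJ
  -- commutators `[q, x]` with `x ∈ C_E(t)` lie in `E ∩ g E g⁻¹`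
  have key : ∀ x ∈ twoCoreOfCentralizer z, x * t = t * x →
      g⁻¹ * (q * x * q⁻¹ * x⁻¹) * g ∈ twoCoreOfCentralizer z := by
    intro x hx hxt
    set y := g⁻¹ * x * g with hy
    have hyH : y ∈ cH z := by
      rw [mem_cH, hy]
      calc g⁻¹ * x * g * z = g⁻¹ * (x * t) * g := by rw [ht]; group
        _ = g⁻¹ * (t * x) * g := by rw [hxt]
        _ = z * (g⁻¹ * x * g) := by rw [ht]; group
    have hc : g⁻¹ * (q * x * q⁻¹ * x⁻¹) * g = q * y * q⁻¹ * y⁻¹ := by
      conv_rhs => rw [hy, ← hgp q hq]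
      group
    have hker : π ⟨q * y * q⁻¹ * y⁻¹, mul_mem (mul_mem (mul_mem (P_le_cH hJ hq) hyH)
        (inv_mem (P_le_cH hJ hq))) (inv_mem hyH)⟩ = 1 := by
      have e1 : π ⟨q, P_le_cH hJ hq⟩ = 1 :=
        (hπ _).mpr ⟨q, hq, 1, one_mem _, (mul_one q).symm⟩
      show π (⟨q, P_le_cH hJ hq⟩ * ⟨y, hyH⟩ * ⟨q, P_le_cH hJ hq⟩⁻¹ * ⟨y, hyH⟩⁻¹) = 1
      rw [map_mul, map_mul, map_mul, e1, map_inv, map_inv, e1, inv_one, one_mul, mul_one,
        mul_inv_cancel]
    obtain ⟨p, hp, e, he, hpe⟩ := (hπ _).mp hker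
    replace hpe : q * y * q⁻¹ * y⁻¹ = p * e := hpe
    rw [hc, hpe]
    have hx4 : (q * x * q⁻¹ * x⁻¹) ^ 4 = 1 := by
      have hm : q * x * q⁻¹ * x⁻¹ ∈ twoCoreOfCentralizer z :=
        mul_mem (core_conj_mem (P_le_cH hJ hq) hx) (inv_mem hx)
      rw [pow_mul _ 2 2]
      rcases hE.sq_cases hm with h | h <;> rw [sq (q * x * q⁻¹ * x⁻¹), h]
      · exact one_pow 2
      · rw [sq, hE.sq_one]
    have h4 : (p * e) ^ 4 = 1 := by
      rw [← hpe, ← hc]
      calc (g⁻¹ * (q * x * q⁻¹ * x⁻¹) * g) ^ 4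
          = (g⁻¹ * (q * x * q⁻¹ * x⁻¹) * g⁻¹⁻¹) ^ 4 := by rw [inv_inv]
        _ = 1 := by rw [conj_pow, hx4, mul_one, mul_inv_cancel]
    have hp4 : p ^ 4 ∈ twoCoreOfCentralizer z := by
      have hgen : ∀ n : ℕ, (p ^ n)⁻¹ * (p * e) ^ n ∈ twoCoreOfCentralizer z := by
        intro n
        induction n with
        | zero => simp
        | succ m ih =>
          rw [show (p ^ (m + 1))⁻¹ * (p * e) ^ (m + 1) =
            (p⁻¹ * ((p ^ m)⁻¹ * (p * e) ^ m) * (p⁻¹)⁻¹) * e by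
              rw [pow_succ, pow_succ]; group]
          exact mul_mem (core_conj_mem (inv_mem (P_le_cH hJ hp)) ih) he
      have h := hgen 4
      rw [h4, mul_one] at h
      simpa using inv_mem h
    have hp1 : p = 1 := by
      have h : p ^ 4 ∈ P ⊓ twoCoreOfCentralizer z := ⟨pow_mem hp 4, hp4⟩
      rw [P_inf_core hJ, Subgroup.mem_bot, pow_succ, pow_three_P hJ hp, one_mul] at h
      exact h
    rw [hp1, one_mul]
    exact he
  -- hence `C_E(t)` lies in `⟨z⟩ (E ∩ g E g⁻¹)`, which is abelian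
  have hzn : g⁻¹ * z * g ∉ twoCoreOfCentralizer z := by
    intro h
    have hc : g⁻¹ * z * g ∈ Subgroup.centralizer (P : Set G) :=
      mul_mem (mul_mem (inv_mem hg) (z_mem_centP hJ)) hg
    have hmem' : g⁻¹ * z * g ∈ twoCoreOfCentralizer z ⊓ Subgroup.centralizer (P : Set G) := ⟨h, hc⟩
    rw [hJ.2.2.2.2.2.2.1, hE.mem_zpowers_z] at hmem'
    rcases hmem' with e | e
    · exact hE.ne_one (by
        rw [mul_assoc, inv_mul_eq_one, eq_comm, mul_eq_right] at e
        exact e)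
    · exact hne (by
        rw [ht]
        conv_lhs => rw [← e]
        group)
  have hsplit : ∀ x ∈ twoCoreOfCentralizer z ⊓ Subgroup.centralizer ({t} : Set G),
      ∃ d ∈ twoCoreOfCentralizer z, g⁻¹ * d * g ∈ twoCoreOfCentralizer z ∧ (x = d ∨ x = d * z) := by
    intro x hx
    have hxt : x * t = t * x := Subgroup.mem_centralizer_singleton_iff.mp hx.2
    have hqt : Commute q t := Subgroup.mem_centralizer_iff.mp htC.2 q hq
    have hy : q * x * q⁻¹ * t = t * (q * x * q⁻¹) :=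
      ((hqt.mul_left hxt).mul_left hqt.inv_left).eq
    have hyE := core_conj_mem (P_le_cH hJ hq) hx.1
    exact ⟨q * (q * x * q⁻¹) * q⁻¹ * (q * x * q⁻¹)⁻¹,
      mul_mem (core_conj_mem (P_le_cH hJ hq) hyE) (inv_mem hyE), key _ hyE hy,
      core_eq_comm hJ hq hq1 hx.1⟩
  obtain ⟨d, hd, hd', hxd⟩ := hsplit a ha
  obtain ⟨d₂, hd₂, hd₂', hxd₂⟩ := hsplit b hb
  have hcomm : d * d₂ = d₂ * d := by
    rcases hE.conj_cases hd hd₂ with h | h
    · exact mul_inv_eq_iff_eq_mul.mp h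
    · exfalso
      refine hzn ?_
      have hz : z = d * d₂ * d⁻¹ * d₂⁻¹ := by rw [h, mul_inv_cancel_right]
      rw [show g⁻¹ * z * g =
        (g⁻¹ * d * g) * (g⁻¹ * d₂ * g) * (g⁻¹ * d * g)⁻¹ * (g⁻¹ * d₂ * g)⁻¹ by rw [hz]; group]
      exact mul_mem (mul_mem (mul_mem hd' hd₂') (inv_mem hd')) (inv_mem hd₂')
  refine hab ?_
  have c1 : Commute d d₂ := hcomm
  have c2 : Commute d z := hE.comm_z hd
  have c3 : Commute d₂ z := hE.comm_z hd₂
  rcases hxd with rfl | rfl <;> rcases hxd₂ with rfl | rfl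
  · exact c1.eq
  · exact (c1.mul_right c2).eq
  · exact (c1.mul_left c3.symm).eq
  · exact ((c1.mul_right c2).mul_left (c3.symm.mul_right (Commute.refl z))).eq

/-- The element `z` is an isolated involution of `C_G(P)`. -/
theorem isIsolated :
    IsIsolatedInvolution (⟨z, z_mem_centP hJ⟩ : ↥(Subgroup.centralizer (P : Set G))) := by
  refine ⟨by rw [← Subgroup.orderOf_coe]; exact hJ.1, fun g hg => Subtype.ext ?_⟩
  exact isolated hJ g.2 (mem_cH.mpr (congrArg Subtype.val hg.eq).symm)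

/-- Glauberman: `C_G(P) = O(C_G(P)) C_H(P)`, in the form `[z, C_G(P)] ≤ O(C_G(P))`. -/
theorem inZStar_z :
    InZStar 2 (⟨z, z_mem_centP hJ⟩ : ↥(Subgroup.centralizer (P : Set G))) :=
  CfsgLib.Involutions.zstar _ _ (isIsolated hJ)

end CfsgLib.J4Type86
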