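import Cfsg.Agent.Lib.J4Type86.ThreeClass25
import Cfsg.Agent.Lib.ThreeTrans.Torsion.Basic
import Cfsg.Agent.Lib.J4Type.SevenGroup
import Cfsg.Agent.Lib.J4Type.FiveMain
import Cfsg.Agent.Lib.PGroup.Frattini
import Cfsg.Agent.Lib.LargeExtra.Transport

/-!
Janko-four type: the Sylow 3-subgroups.
-/

set_option autoImplicit false

namespace CfsgLib.J4Type86.ThreeClass

open Cfsg

/-- The Sylow 3-normaliser of `M22` has order 72. -/
theorem card_normalizer_M22 {R : Subgroup ↥Spor.M22} (h9 : Nat.card R = 9) (h3 : ∀ r ∈ R, r ^ 3 = 1) :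
    Nat.card (Subgroup.normalizer (R : Set ↥Spor.M22)) = 72 := by
  classical
  haveI : Fact (Nat.Prime 3) := ⟨Nat.prime_three⟩
  haveI : Fact (Nat.Prime 2) := ⟨Nat.prime_two⟩
  obtain ⟨m, -, -, hone, hcard, -⟩ := CfsgLib.MathieuTwentyTwo.Model.three_data
  obtain ⟨t₀, -, -, htwo, hcard2, -⟩ := CfsgLib.MathieuTwentyTwo.Model.two_data
  set N := Subgroup.normalizer (R : Set ↥Spor.M22) with hN
  have hab : ∀ a ∈ R, ∀ b ∈ R, Commute a b := fun a ha b hb =>
    congrArg Subtype.val ((IsPGroup.isMulCommutative_of_card_eq_prime_sq (G := R) (p := 3) h9).is_comm.comm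
      ⟨a, ha⟩ ⟨b, hb⟩)
  have hcx : ∀ x ∈ R, x ≠ 1 → Nat.card (Subgroup.centralizer ({x} : Set ↥Spor.M22)) = 36 ∧
      R ≤ Subgroup.centralizer {x} := by
    intro x hx hx1
    obtain ⟨u, rfl⟩ := isConj_iff.mp (hone x (orderOf_eq_prime (h3 x hx) hx1))
    refine ⟨?_, fun r hr => Subgroup.mem_centralizer_singleton_iff.mpr (hab r hr _ hx)⟩
    rw [← J4Type.map_conj_centralizer, ThreeTrans.Torsion.card_map_conj, hcard]
  have hfac : (36 : ℕ).factorization 3 = 2 := by
    rw [show (36 : ℕ) = 3 ^ 2 * 4 by norm_num, Nat.factorization_mul (by norm_num) (by norm_num),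
      Finsupp.add_apply, Nat.prime_three.factorization_pow, Finsupp.single_eq_same,
      Nat.factorization_eq_zero_of_not_dvd (by norm_num)]
  -- transitivity
  have htr : ∀ x ∈ R, x ≠ 1 → ∀ y ∈ R, y ≠ 1 → ∃ n ∈ N, n * x * n⁻¹ = y := by
    intro x hx hx1 y hy hy1
    obtain ⟨g, hg⟩ := isConj_iff.mp (((hone x (orderOf_eq_prime (h3 x hx) hx1)).symm).trans
      (hone y (orderOf_eq_prime (h3 y hy) hy1)))
    obtain ⟨hC, hRC⟩ := hcx y hy hy1
    have hR' : R.map (MulAut.conj g).toMonoidHom ≤ Subgroup.centralizer ({y} : Set ↥Spor.M22) := by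
      rintro _ ⟨r, hr, rfl⟩
      rw [Subgroup.mem_centralizer_singleton_iff, ← hg]
      exact congrArg (MulAut.conj g) (hab r hr x hx).eq |> fun e => by simpa [mul_assoc] using e
    set C := Subgroup.centralizer ({y} : Set ↥Spor.M22)
    have hsyl : ∀ Q : Subgroup ↥Spor.M22, Q ≤ C → Nat.card Q = 9 → ∃ T : Sylow 3 C, (T : Subgroup C) = Q.subgroupOf C :=
      fun Q hQ hQc => ⟨Sylow.ofCard (Q.subgroupOf C)
        (by rw [Nat.card_congr (Subgroup.subgroupOfEquivOfLe hQ).toEquiv, hQc, hC, hfac]; norm_num), rfl⟩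
    obtain ⟨T, hT⟩ := hsyl _ hR' (by rw [ThreeTrans.Torsion.card_map_conj, h9])
    obtain ⟨T', hT'⟩ := hsyl R hRC h9
    obtain ⟨d, hd⟩ := MulAction.exists_smul_eq C T T'
    refine ⟨d * g, Subgroup.mem_normalizer_fintype fun r hr => ?_, ?_⟩
    · have hmem : g * r * g⁻¹ ∈ C := hR' ⟨r, hr, rfl⟩
      have h1 : d * ⟨g * r * g⁻¹, hmem⟩ * d⁻¹ ∈ (T' : Subgroup C) := by
        rw [← hd, Sylow.coe_subgroup_smul]
        refine Subgroup.mem_pointwise_smul_iff_inv_smul_mem.mpr ?_
        rw [hT]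
        simpa [mul_assoc, Subgroup.mem_subgroupOf] using hr
      rw [hT', Subgroup.mem_subgroupOf] at h1
      simpa [mul_assoc] using h1
    · have := Subgroup.mem_centralizer_singleton_iff.mp d.2
      calc (d : ↥Spor.M22) * g * x * ((d : ↥Spor.M22) * g)⁻¹ = d * (g * x * g⁻¹) * (d : ↥Spor.M22)⁻¹ := by group
        _ = y := by rw [hg, this, mul_inv_cancel_right]
  obtain ⟨x, hxR, hx1⟩ : ∃ x ∈ R, x ≠ 1 := R.bot_or_exists_ne_one.resolve_left fun hb => by
    rw [hb, Subgroup.card_bot] at h9; norm_num at h9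
  obtain ⟨hC, hRC⟩ := hcx x hxR hx1
  -- no involution-sized normal Sylow subgroup in the centraliser
  set C := Subgroup.centralizer ({x} : Set ↥Spor.M22) with hCdef
  have hT : Nat.card (N ⊓ C : Subgroup ↥Spor.M22) = 9 := by
    let T : Sylow 3 C := Sylow.ofCard (R.subgroupOf C)
      (by rw [Nat.card_congr (Subgroup.subgroupOfEquivOfLe hRC).toEquiv, h9, hC, hfac]; norm_num)
    have hNC : Nat.card (Subgroup.normalizer ((T : Subgroup C) : Set C)) = Nat.card (N ⊓ C : Subgroup ↥Spor.M22) := by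
      show Nat.card (Subgroup.normalizer ((R.subgroupOf C : Subgroup C) : Set C)) = _
      rw [← Subgroup.subgroupOf_normalizer_eq hRC]
      exact Nat.card_congr
        { toFun := fun g => ⟨g.1.1, g.2, g.1.2⟩
          invFun := fun g => ⟨⟨g.1, g.2.2⟩, g.2.1⟩
          left_inv := fun g => rfl
          right_inv := fun g => rfl }
    have hn : Nat.card (Sylow 3 C) = (Subgroup.normalizer ((T : Subgroup C) : Set C)).index :=
      T.card_eq_index_normalizer
    have hmod := card_sylow_modEq_one 3 C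
    have hmul := (Subgroup.normalizer ((T : Subgroup C) : Set C)).index_mul_card
    rw [← hn, hNC, hC] at hmul
    have h9d : 9 ∣ Nat.card (N ⊓ C : Subgroup ↥Spor.M22) :=
      h9 ▸ Subgroup.card_dvd_of_le (le_inf Subgroup.le_normalizer hRC)
    obtain ⟨j, hj⟩ := h9d
    rw [hj] at hmul ⊢
    set n := Nat.card (Sylow 3 C)
    have hj4 : j ∣ 4 := ⟨n, Nat.eq_of_mul_eq_mul_left (by norm_num : 0 < 9) (by linarith)⟩
    have := Nat.le_of_dvd (by norm_num) hj4
    interval_cases j
    · omega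
    · rfl
    · exfalso; revert hmod; rw [show n = 2 by omega]; norm_num [Nat.ModEq]
    · norm_num at hj4
    · exfalso
      -- the centraliser normalises `R`
      have hnorm : C ≤ N := by
        have := Subgroup.eq_of_le_of_card_ge (inf_le_right : N ⊓ C ≤ C) (by rw [hj, hC])
        exact this ▸ inf_le_left
      obtain ⟨r, hrR, hrZ⟩ : ∃ r ∈ R, r ∉ Subgroup.zpowers x := by
        by_contra hall
        push Not at hall
        have := Nat.le_of_dvd Nat.card_pos (Subgroup.card_dvd_of_le hall)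
        rw [h9, Nat.card_zpowers, orderOf_eq_prime (h3 x hxR) hx1] at this
        omega
      set Z := Subgroup.zpowers x with hZ
      have hZR : Z ≤ R := Subgroup.zpowers_le.mpr hxR
      have hfix : ∀ w ∈ C, ∀ a ∈ Z, w * a * w⁻¹ = a := by
        intro w hw a ha
        obtain ⟨i, rfl⟩ := Subgroup.mem_zpowers_iff.mp ha
        rw [((show Commute w x from Subgroup.mem_centralizer_singleton_iff.mp hw).zpow_right i).eq,
          mul_inv_cancel_right]
      have hdich : ∀ w ∈ C, w * r * w⁻¹ * r⁻¹ ∈ Z ∨ w * r * w⁻¹ * r ∈ Z := by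
        intro w hw
        have hs : w * r * w⁻¹ ∈ R := (Subgroup.mem_normalizer_iff.mp (hnorm hw) r).mp hrR
        haveI hn : (Z.subgroupOf R).Normal := ⟨fun a ha b => by
          show (b : ↥Spor.M22) * a * (b : ↥Spor.M22)⁻¹ ∈ Z
          rw [(hab b b.2 a a.2).eq, mul_inv_cancel_right]
          exact ha⟩
        have h3q : Nat.card (R ⧸ Z.subgroupOf R) = 3 := by
          have h := (Z.subgroupOf R).card_eq_card_quotient_mul_card_subgroup
          have hz3 : Nat.card Z = 3 := by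
            rw [hZ, Nat.card_zpowers]; exact orderOf_eq_prime (h3 x hxR) hx1
          rw [Nat.card_congr (Subgroup.subgroupOfEquivOfLe hZR).toEquiv, h9, hz3] at h
          omega
        have hr1 : (QuotientGroup.mk ⟨r, hrR⟩ : R ⧸ Z.subgroupOf R) ≠ 1 := fun e =>
          hrZ (Subgroup.mem_subgroupOf.mp ((QuotientGroup.eq_one_iff (⟨r, hrR⟩ : R)).mp e))
        have hgen := mem_powers_of_prime_card (p := 3) h3q hr1
          (g' := (QuotientGroup.mk ⟨w * r * w⁻¹, hs⟩ : R ⧸ Z.subgroupOf R))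
        obtain ⟨i, hi⟩ := hgen
        have hi' : ((QuotientGroup.mk ⟨r, hrR⟩ : R ⧸ Z.subgroupOf R)) ^ (i % 3) =
            QuotientGroup.mk ⟨w * r * w⁻¹, hs⟩ := by
          rw [← hi]
          exact (pow_mod_natCard _ i).symm.trans (by rw [h3q]) |>.symm
        have := Nat.mod_lt i (by norm_num : 0 < 3)
        generalize i % 3 = k at *
        interval_cases k
        · exfalso
          rw [pow_zero, eq_comm, QuotientGroup.eq_one_iff] at hi'
          have hh : w * r * w⁻¹ ∈ Z := hi'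
          have h' := hfix w⁻¹ (C.inv_mem hw) _ hh
          refine hrZ ?_
          rw [show r = w⁻¹ * (w * r * w⁻¹) * w⁻¹⁻¹ by group, h']
          exact hh
        · left
          rw [pow_one, QuotientGroup.eq] at hi'
          have hh : r⁻¹ * (w * r * w⁻¹) ∈ Z := hi'
          rwa [(hab _ (R.inv_mem hrR) _ hs).eq] at hh
        · right
          rw [← QuotientGroup.mk_pow, QuotientGroup.eq] at hi'
          have hh : (r ^ 2)⁻¹ * (w * r * w⁻¹) ∈ Z := hi'
          rw [show (r ^ 2)⁻¹ = r from inv_eq_of_mul_eq_one_left (by rw [← pow_succ']; exact h3 r hrR),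
            (hab r hrR _ hs).eq] at hh
          exact hh
      obtain ⟨T2, hT2⟩ := Sylow.exists_subgroup_card_pow_prime (G := C) 2 (n := 2)
        (by rw [hC]; norm_num)
      haveI : Fintype T2 := Fintype.ofFinite _
      have hc4 : Fintype.card T2 = 4 := by rw [← Nat.card_eq_fintype_card, hT2]; norm_num
      obtain ⟨a, ha⟩ := Fintype.exists_ne_of_one_lt_card (by omega) (1 : T2)
      obtain ⟨b, hb⟩ : ∃ b : T2, b ∉ ({1, a⁻¹} : Finset T2) := by
        by_contra hall
        push Not at hall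
        have h1 : Fintype.card T2 ≤ ({1, a⁻¹} : Finset T2).card := Finset.card_le_card fun y _ => hall y
        have := (Finset.card_insert_le (1 : T2) {a⁻¹})
        rw [Finset.card_singleton] at this
        omega
      rw [Finset.mem_insert, Finset.mem_singleton, not_or] at hb
      have hab1 : a * b ≠ 1 := fun e => hb.2 (eq_inv_of_mul_eq_one_right e)
      obtain ⟨w, hw1, hw⟩ : ∃ w : T2, w ≠ 1 ∧ ((w : C) : ↥Spor.M22) * r * ((w : C) : ↥Spor.M22)⁻¹ * r⁻¹ ∈ Z := by
        rcases hdich _ (a : C).2 with h | ha'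
        · exact ⟨a, ha, h⟩
        rcases hdich _ (b : C).2 with h | hb'
        · exact ⟨b, hb.1, h⟩
        refine ⟨a * b, hab1, ?_⟩
        set u := ((a : C) : ↥Spor.M22) with hu
        set v := ((b : C) : ↥Spor.M22) with hv
        set α := u * r * u⁻¹ * r with hα
        set β := v * r * v⁻¹ * r with hβ
        show u * v * r * (u * v)⁻¹ * r⁻¹ ∈ Z
        have e1 : u * r⁻¹ * u⁻¹ = r * α⁻¹ := by rw [hα]; group
        have e2 : u * v * r * (u * v)⁻¹ * r⁻¹ = u * β * u⁻¹ * (u * r⁻¹ * u⁻¹) * r⁻¹ := by rw [hβ]; group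
        rw [e2, hfix u (a : C).2 β hb', e1,
          (hab r hrR α⁻¹ (R.inv_mem (hZR ha'))).eq,
          show β * (α⁻¹ * r) * r⁻¹ = β * α⁻¹ by group]
        exact Z.mul_mem hb' (Z.inv_mem ha')
      set u := ((w : C) : ↥Spor.M22) with hu
      have huC : u ∈ C := (w : C).2
      set α := u * r * u⁻¹ * r⁻¹ with hα
      have hpow : ∀ n : ℕ, u ^ n * r * (u ^ n)⁻¹ = α ^ n * r := by
        intro n
        induction n with
        | zero => simp
        | succ n ih =>
          calc u ^ (n + 1) * r * (u ^ (n + 1))⁻¹ = u * (u ^ n * r * (u ^ n)⁻¹) * u⁻¹ := by rw [pow_succ']; group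
            _ = u * (α ^ n * r) * u⁻¹ := by rw [ih]
            _ = (u * α ^ n * u⁻¹) * (u * r * u⁻¹ * r⁻¹) * r := by group
            _ = α ^ (n + 1) * r := by rw [hfix u huC _ (Z.pow_mem hw n), ← hα, ← pow_succ]
      have hu4 : u ^ 4 = 1 := by
        have h := pow_card_eq_one (G := T2) (x := w)
        rw [hc4] at h
        exact congrArg (fun c : T2 => ((c : C) : ↥Spor.M22)) h
      have hα1 : α = 1 := by
        have h := hpow 4
        rw [hu4, one_mul, inv_one, mul_one] at h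
        have h4 : α ^ 4 = 1 := (mul_eq_right).mp h.symm
        rwa [pow_succ, h3 α (hZR hw), one_mul] at h4
      have hur : Commute u r := mul_inv_eq_iff_eq_mul.mp (mul_inv_eq_one.mp hα1)
      have hux : Commute u x := Subgroup.mem_centralizer_singleton_iff.mp huC
      obtain ⟨s, hs2, hsr, hsx⟩ : ∃ s : ↥Spor.M22, orderOf s = 2 ∧ Commute s r ∧ Commute s x := by
        have hu1 : u ≠ 1 := fun e => hw1 (Subtype.ext (Subtype.ext e))
        by_cases h2 : u ^ 2 = 1
        · exact ⟨u, orderOf_eq_prime h2 hu1, hur, hux⟩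
        · exact ⟨u ^ 2, orderOf_eq_prime (by rw [← pow_mul]; exact hu4) h2, hur.pow_left 2, hux.pow_left 2⟩
      obtain ⟨g, rfl⟩ := isConj_iff.mp (htwo s hs2)
      have h384 : Nat.card (Subgroup.centralizer ({g * t₀ * g⁻¹} : Set ↥Spor.M22)) = 384 := by
        rw [← J4Type.map_conj_centralizer, ThreeTrans.Torsion.card_map_conj, hcard2]
      set D := R ⊓ Subgroup.centralizer ({g * t₀ * g⁻¹} : Set ↥Spor.M22) with hD
      have hd1 : Nat.card D ∣ 384 := h384 ▸ Subgroup.card_dvd_of_le inf_le_right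
      have hd2 : Nat.card D ∣ 9 := h9 ▸ Subgroup.card_dvd_of_le inf_le_left
      have hd3 : Nat.card D = 9 := by
        obtain ⟨i, hi, hi'⟩ := (Nat.dvd_prime_pow Nat.prime_three).mp (show Nat.card D ∣ 3 ^ 2 from hd2)
        have hgt : 3 < Nat.card D := by
          have hsub : Z ≤ D := Subgroup.zpowers_le.mpr ⟨hxR, Subgroup.mem_centralizer_singleton_iff.mpr hsx.symm⟩
          have hrD : r ∈ D := ⟨hrR, Subgroup.mem_centralizer_singleton_iff.mpr hsr.symm⟩
          rcases (Subgroup.card_le_of_le hsub).lt_or_eq with hlt | heq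
          · rwa [hZ, Nat.card_zpowers, orderOf_eq_prime (h3 x hxR) hx1] at hlt
          · exact absurd ((Subgroup.eq_of_le_of_card_ge hsub heq.ge) ▸ hrD) hrZ
        rw [hi'] at hgt ⊢
        interval_cases i <;> (revert hgt; norm_num)
      rw [hd3] at hd1
      norm_num at hd1
  have := ThreeTrans.Torsion.card_eq_orbit_mul N (O := (R : Set ↥Spor.M22) \ {1}) (a := x) ⟨hxR, hx1⟩
    (fun k hk => ⟨(Subgroup.mem_normalizer_iff.mp hk x).mp hxR, fun e => hx1 (conj_eq_one_iff.mp e)⟩)
    (fun b hb => htr x hxR hx1 b hb.1 hb.2)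
  rw [this, Set.ncard_sdiff_singleton_of_mem R.one_mem, ← Nat.card_coe_set_eq, ← hCdef, hT]
  show (Nat.card R - 1) * 9 = 72
  rw [h9]

variable {G : Type*} [Group G] [Finite G] {z : G} {P : Subgroup G}
  (hJ : IsOfJankoFourTypeWith z P)
include hJ

/-- The structure of the Sylow 3-subgroup in `C`. -/
theorem sylow_structure {S : Subgroup G} (hSC : S ≤ cC z P) (hPS : P ≤ S) (h27 : Nat.card S = 27)
    (hcen : ∀ s ∈ S, (∀ t ∈ S, Commute s t) → s ∈ P) :
    IsExtraspecial 3 ↥S ∧ Monoid.exponent ↥S = 3 := by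
  classical
  haveI : Fact (Nat.Prime 3) := ⟨Nat.prime_three⟩
  have hp3 : IsPGroup 3 S := IsPGroup.of_card (n := 3) (by rw [h27]; norm_num)
  set Z := P.subgroupOf S with hZ
  have hcenter : Subgroup.center S = Z := by
    ext s
    rw [Subgroup.mem_center_iff, hZ, Subgroup.mem_subgroupOf]
    exact ⟨fun h => hcen s s.2 fun t ht => (congrArg Subtype.val (h ⟨t, ht⟩)).symm,
      fun h t => Subtype.ext (commute_P hJ (hSC t.2) h).eq.symm⟩
  haveI : Z.Normal := hcenter ▸ inferInstance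
  have hZc : Nat.card Z = 3 := by
    rw [hZ, Nat.card_congr (Subgroup.subgroupOfEquivOfLe hPS).toEquiv, card_P hJ]
  have hq : Nat.card (S ⧸ Z) = 3 ^ 2 := by
    have h := Z.card_eq_card_quotient_mul_card_subgroup
    rw [hZc, h27] at h
    omega
  have hna : ¬ ∀ a b : S, a * b = b * a := fun h => by
    have : Subgroup.center S = ⊤ := eq_top_iff.mpr fun s _ => Subgroup.mem_center_iff.mpr fun t => h t s
    rw [hcenter] at this
    have := congrArg (fun H : Subgroup S => Nat.card H) this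
    simp only [Subgroup.card_top, hZc, h27] at this
    omega
  have hcubeP : ∀ s : S, (s : G) ^ 3 ∈ P := by
    intro s
    have hd : orderOf (s : S ⧸ Z) ∣ 3 ^ 2 := hq ▸ orderOf_dvd_natCard _
    obtain ⟨i, hi, hi'⟩ := (Nat.dvd_prime_pow Nat.prime_three).mp hd
    have h3 : (s : S ⧸ Z) ^ 3 = 1 := by
      rw [← orderOf_dvd_iff_pow_eq_one, hi']
      interval_cases i
      · exact one_dvd _
      · norm_num
      · exfalso
        haveI : IsCyclic (S ⧸ Z) := isCyclic_of_orderOf_eq_card (s : S ⧸ Z) (hi'.trans hq.symm)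
        exact hna (MonoidHom.isMulCommutative_of_isCyclic_of_ker_le_center (QuotientGroup.mk' Z)
          (by rw [QuotientGroup.ker_mk', hcenter])).is_comm.comm
    rw [← QuotientGroup.mk_pow, QuotientGroup.eq_one_iff] at h3
    exact h3
  -- exponent
  have hexp : ∀ s ∈ S, s ^ 3 = 1 := by
    intro y hyS
    by_cases hyP : y ∈ P
    · exact pow_three_P hJ hyP
    obtain ⟨ρ, hρs, hρ⟩ := exists_rho hJ
    obtain ⟨F⟩ := exists_frame' hJ
    obtain ⟨m, -, -, hone, -⟩ := CfsgLib.MathieuTwentyTwo.Model.three_data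
    have hXP : F.X ∉ P := fun hX => F.q_ne (by
      have hc : Commute F.X F.Y := commute_P hJ (F.Y_mem hJ) hX
      have h := F.comm
      rw [hc.eq] at h
      exact (right_eq_mul).mp h)
    have hy9 : y ^ 9 = 1 := by
      rw [show 9 = 3 * 3 by rfl, pow_mul, pow_three_P hJ (hcubeP ⟨y, hyS⟩)]
    have hy1 : orderOf (ρ ⟨y, hSC hyS⟩) = 3 := by
      refine orderOf_eq_prime ?_ fun h => hyP (mem_P_of_pow hJ ((hρ _).mp h) (n := 9) (by decide) hy9)
      rw [← map_pow]
      exact (hρ _).mpr ⟨_, hcubeP ⟨y, hyS⟩, Or.inl rfl⟩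
    have hX1 : orderOf (ρ ⟨F.X, F.X_mem⟩) = 3 := by
      refine orderOf_eq_prime ?_ fun h => hXP (mem_P_of_pow hJ ((hρ _).mp h) (n := 3) (by decide) F.X_cube)
      rw [← map_pow, show (⟨F.X, F.X_mem⟩ : ↥(cC z P)) ^ 3 = 1 from Subtype.ext F.X_cube, map_one]
    obtain ⟨v, hv⟩ := isConj_iff.mp ((hone _ hX1).symm.trans (hone _ hy1))
    obtain ⟨c, rfl⟩ := hρs v
    set k := y⁻¹ * ((c : G) * F.X * (c : G)⁻¹) with hk
    have hρk : ρ (⟨y, hSC hyS⟩⁻¹ * (c * ⟨F.X, F.X_mem⟩ * c⁻¹)) = 1 := by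
      rw [map_mul, map_mul, map_mul, map_inv, map_inv, hv, inv_mul_cancel]
    have hk' := (hρ _).mp hρk
    have hkc : Commute k y := commute_ker hJ hk' (hSC hyS)
    have hk9 : k ^ 9 = 1 := by
      have e : (y * k) ^ 9 = 1 := by
        rw [hk, mul_inv_cancel_left, conj_pow, show 9 = 3 * 3 by rfl, pow_mul, F.X_cube, one_pow]; group
      rwa [hkc.symm.mul_pow, hy9, one_mul] at e
    have hkP : k ∈ P := mem_P_of_pow hJ hk' (n := 9) (by decide) hk9
    have e : (y * k) ^ 3 = 1 := by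
      rw [hk, mul_inv_cancel_left, conj_pow, F.X_cube]; group
    rwa [hkc.symm.mul_pow, pow_three_P hJ hkP, mul_one] at e
  have hexp' : ∀ s : S, s ^ 3 = 1 := fun s => Subtype.ext (hexp s s.2)
  have hcomm : commutator S = Z := by
    have hle : commutator S ≤ Z := by
      rw [commutator_def, Subgroup.commutator_le]
      intro a _ b _
      have h := (IsPGroup.isMulCommutative_of_card_eq_prime_sq hq).is_comm.comm (a : S ⧸ Z) (b : S ⧸ Z)
      rw [← QuotientGroup.eq_one_iff]
      show ((a * b * a⁻¹ * b⁻¹ : S) : S ⧸ Z) = 1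
      rw [QuotientGroup.mk_mul, QuotientGroup.mk_mul, QuotientGroup.mk_mul, h, QuotientGroup.mk_inv,
        QuotientGroup.mk_inv, mul_inv_cancel_right, mul_inv_cancel]
    refine Subgroup.eq_of_le_of_card_ge hle ?_
    rw [hZc]
    rcases (Nat.dvd_prime Nat.prime_three).mp (hZc ▸ Subgroup.card_dvd_of_le hle) with h | h
    · exfalso
      have hbot := Subgroup.eq_bot_of_card_eq _ h
      refine hna fun a b => ?_
      have := Subgroup.commutator_mem_commutator (Subgroup.mem_top a) (Subgroup.mem_top b)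
      rw [← commutator_def, hbot, Subgroup.mem_bot, commutatorElement_eq_one_iff_mul_comm] at this
      exact this
    · rw [h]
  refine ⟨⟨⟨hp3, le_antisymm ?_ ?_, hcomm.trans hcenter.symm⟩, by rw [hcenter, hZc]⟩, ?_⟩
  · rw [hcenter]
    exact CfsgLib.PGroup.frattini_le_of (p := 3) _ hcomm.le fun s => by rw [hexp' s]; exact one_mem _
  · rw [hcenter, ← hcomm]
    exact CfsgLib.PGroup.commutator_le_frattini hp3
  · refine ((Nat.dvd_prime Nat.prime_three).mp (Monoid.exponent_dvd_of_forall_pow_eq_one hexp')).resolve_left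
      fun h => hna fun a b => ?_
    haveI := Monoid.exp_eq_one_iff.mp h
    exact Subsingleton.elim _ _

/-- The normaliser of the Sylow 3-subgroup of `C`. -/
theorem sylow_normalizer (hNP : Subgroup.normalizer (P : Set G) ≤ cH z) {S : Subgroup G} (hSC : S ≤ cC z P)
    (hPS : P ≤ S) (h27 : Nat.card S = 27) (hcen : ∀ s ∈ S, (∀ t ∈ S, Commute s t) → s ∈ P) :
    Subgroup.normalizer (S : Set G) ≤ cH z ∧ Nat.card (Subgroup.normalizer (S : Set G)) = 864 := by
  classical
  haveI : Fact (Nat.Prime 3) := ⟨Nat.prime_three⟩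
  set N := Subgroup.normalizer (S : Set G) with hN
  obtain ⟨p, hp, hp1⟩ := P.bot_or_exists_ne_one.resolve_left fun hbot => by
    have := card_P hJ
    rw [hbot, Subgroup.card_bot] at this
    omega
  have hNnP : N ≤ Subgroup.normalizer (P : Set G) := fun n hn =>
    mem_normalizer_P hJ hp hp1 (hcen _ ((Subgroup.mem_normalizer_iff.mp hn p).mp (hPS hp)) fun t ht => by
      have ht' : n⁻¹ * t * n ∈ S := (Subgroup.mem_normalizer_iff''.mp hn t).mp ht
      have := (commute_P hJ (hSC ht') hp).map (MulAut.conj n).toMonoidHom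
      simpa [mul_assoc] using this)
  refine ⟨hNnP.trans hNP, ?_⟩
  set K := N ⊓ Subgroup.centralizer (P : Set G) with hK
  have hKC : K ≤ cC z P := fun g hg => ⟨hNP (hNnP hg.1), hg.2⟩
  -- an element of the normaliser outside the centraliser of `P`
  obtain ⟨n, hn, hnc⟩ : ∃ n ∈ N, n ∉ Subgroup.centralizer (P : Set G) := by
    obtain ⟨n, hn, hnc⟩ : ∃ n ∈ cM z P, n ∉ Subgroup.centralizer (P : Set G) := by
      by_contra hall
      push Not at hall
      exact hJ.2.2.2.2.2.2.2.1 (le_antisymm (fun n hn => ⟨hn.1, hall n hn⟩)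
        (inf_le_inf_left _ (Subgroup.centralizer_le_normalizer ((P : Subgroup G) : Set G))))
    have hle : S.map (MulAut.conj n).toMonoidHom ≤ cC z P := by
      rintro _ ⟨s, hs, rfl⟩
      refine ⟨mul_mem (mul_mem hn.1 (hSC hs).1) ((cH z).inv_mem hn.1), Subgroup.mem_centralizer_iff.mpr fun q hq => ?_⟩
      have hq' : n⁻¹ * q * n ∈ P := (Subgroup.mem_normalizer_iff''.mp hn.2 q).mp hq
      have := (commute_P hJ (hSC hs) hq').map (MulAut.conj n).toMonoidHom
      simpa [Commute, SemiconjBy, mul_assoc] using this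
    have hfac : (Nat.card ↥(cC z P)).factorization 3 = 3 := by
      rw [card_cC hJ, show (6 * 443520 : ℕ) = 3 ^ 3 * 98560 by norm_num,
        Nat.factorization_mul (by norm_num) (by norm_num), Finsupp.add_apply,
        Nat.prime_three.factorization_pow, Finsupp.single_eq_same,
        Nat.factorization_eq_zero_of_not_dvd (by norm_num)]
    let T : Sylow 3 ↥(cC z P) := Sylow.ofCard ((S.map (MulAut.conj n).toMonoidHom).subgroupOf (cC z P))
      (by rw [Nat.card_congr (Subgroup.subgroupOfEquivOfLe hle).toEquiv, ThreeTrans.Torsion.card_map_conj, h27,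
        hfac]; norm_num)
    let T' : Sylow 3 ↥(cC z P) := Sylow.ofCard (S.subgroupOf (cC z P))
      (by rw [Nat.card_congr (Subgroup.subgroupOfEquivOfLe hSC).toEquiv, h27, hfac]; norm_num)
    obtain ⟨c, hc⟩ := MulAction.exists_smul_eq ↥(cC z P) T T'
    refine ⟨c * n, Subgroup.mem_normalizer_fintype fun s hs => ?_, fun hmem => hnc ?_⟩
    · have hmem : n * s * n⁻¹ ∈ cC z P := hle ⟨s, hs, rfl⟩
      have h1 : c * ⟨n * s * n⁻¹, hmem⟩ * c⁻¹ ∈ (T' : Subgroup ↥(cC z P)) := by
        rw [← hc, Sylow.coe_subgroup_smul]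
        refine Subgroup.mem_pointwise_smul_iff_inv_smul_mem.mpr ?_
        simpa [mul_assoc, Subgroup.mem_subgroupOf, T] using hs
      have h2 : ((c * ⟨n * s * n⁻¹, hmem⟩ * c⁻¹ : ↥(cC z P)) : G) ∈ S := Subgroup.mem_subgroupOf.mp h1
      simpa [mul_assoc] using h2
    · simpa using (Subgroup.centralizer (P : Set G)).mul_mem ((Subgroup.centralizer (P : Set G)).inv_mem c.2.2) hmem
  have hidx : (K.subgroupOf N).index = 2 := by
    rw [Subgroup.index_eq_two_iff]
    refine ⟨⟨n, hn⟩, fun b => ?_⟩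
    rw [Subgroup.mem_subgroupOf, Subgroup.mem_subgroupOf]
    by_cases hb : (b : G) ∈ Subgroup.centralizer (P : Set G)
    · refine Or.inr ⟨⟨b.2, hb⟩, fun h => hnc ?_⟩
      simpa using mul_mem (inv_mem hb) h.2
    · exact Or.inl ⟨⟨mul_mem b.2 hn, mul_mem_centP hJ (hNnP b.2) (hNnP hn) hb hnc⟩, fun h => hb h.2⟩
  have hmul := (K.subgroupOf N).index_mul_card
  rw [hidx, Nat.card_congr (Subgroup.subgroupOfEquivOfLe (inf_le_left : K ≤ N)).toEquiv] at hmul
  -- the centralising part
  obtain ⟨ρ, hρs, hρ⟩ := exists_rho hJ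
  set K' := K.subgroupOf (cC z P) with hK'
  have hker : ρ.ker ≤ K' := by
    intro k hk
    have hk' := (hρ k).mp hk
    refine ⟨Subgroup.mem_normalizer_fintype fun s hs => ?_, k.2.2⟩
    show (k : G) * s * (k : G)⁻¹ ∈ S
    rw [(commute_ker hJ hk' (hSC hs)).eq, mul_inv_cancel_right]
    exact hs
  have hexp := (sylow_structure hJ hSC hPS h27 hcen).2
  set R := (S.subgroupOf (cC z P)).map ρ with hR
  have h9 : Nat.card R = 9 := by
    have h := J4Type.card_eq_inf_ker_mul_map ρ (S.subgroupOf (cC z P))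
    rw [Nat.card_congr (Subgroup.subgroupOfEquivOfLe hSC).toEquiv, h27] at h
    have h3 : Nat.card (S.subgroupOf (cC z P) ⊓ ρ.ker : Subgroup ↥(cC z P)) = 3 := by
      rw [← card_P hJ]
      refine Nat.card_congr
        { toFun := fun a => ⟨(a.1 : G), mem_P_of_pow hJ ((hρ a.1).mp a.2.2) (n := 3) (by decide)
            (by
              have h := Monoid.pow_exponent_eq_one (⟨(a.1 : G), a.2.1⟩ : S)
              rw [hexp] at h
              exact congrArg Subtype.val h)⟩
          invFun := fun q => ⟨⟨q.1, P_le_cC hJ q.2⟩, hPS q.2, (hρ _).mpr ⟨q.1, q.2, Or.inl rfl⟩⟩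
          left_inv := fun a => rfl
          right_inv := fun q => rfl }
    rw [h3, ← hR] at h
    omega
  have hR3 : ∀ r ∈ R, r ^ 3 = 1 := by
    rintro _ ⟨s, hs, rfl⟩
    rw [← map_pow]
    have h := Monoid.pow_exponent_eq_one (⟨(s : G), hs⟩ : S)
    rw [hexp] at h
    rw [show s ^ 3 = 1 from Subtype.ext (congrArg Subtype.val h :), map_one]
  have himg : K'.map ρ = Subgroup.normalizer (R : Set ↥Spor.M22) := by
    refine le_antisymm ?_ fun v hv => ?_
    · rintro _ ⟨k, hk, rfl⟩
      refine Subgroup.mem_normalizer_fintype ?_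
      rintro _ ⟨s, hs, rfl⟩
      exact ⟨k * s * k⁻¹, (Subgroup.mem_normalizer_iff.mp hk.1 s).mp hs, by rw [map_mul, map_mul, map_inv]⟩
    · obtain ⟨c, rfl⟩ := hρs v
      refine ⟨c, ⟨Subgroup.mem_normalizer_fintype fun s hs => ?_, c.2.2⟩, rfl⟩
      obtain ⟨t, ht, hte⟩ := (Subgroup.mem_normalizer_iff.mp hv _).mp ⟨⟨s, hSC hs⟩, hs, rfl⟩
      have hk : ρ (t⁻¹ * (c * ⟨s, hSC hs⟩ * c⁻¹)) = 1 := by
        rw [map_mul, map_mul, map_mul, map_inv, map_inv, hte, inv_mul_cancel]
      have hk' := (hρ _).mp hk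
      set k := ((t⁻¹ * (c * ⟨s, hSC hs⟩ * c⁻¹) : ↥(cC z P)) : G) with hkdef
      have hkc : Commute k (t : G) := commute_ker hJ hk' t.2
      have hs3 : s ^ 3 = 1 := by
        have h := Monoid.pow_exponent_eq_one (⟨s, hs⟩ : S)
        rw [hexp] at h
        exact congrArg Subtype.val h
      have ht3 : (t : G) ^ 3 = 1 := by
        have h := Monoid.pow_exponent_eq_one (⟨(t : G), ht⟩ : S)
        rw [hexp] at h
        exact congrArg Subtype.val h
      have e : (c : G) * s * (c : G)⁻¹ = t * k := by rw [hkdef]; simp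
      have hk3 : k ^ 3 = 1 := by
        have e' : ((t : G) * k) ^ 3 = 1 := by rw [← e, conj_pow, hs3]; group
        rwa [hkc.symm.mul_pow, ht3, one_mul] at e'
      show (c : G) * s * (c : G)⁻¹ ∈ S
      rw [e]
      exact mul_mem ht (hPS (mem_P_of_pow hJ hk' (n := 3) (by decide) hk3))
  have hKcard : Nat.card K = 6 * 72 := by
    rw [← Nat.card_congr (Subgroup.subgroupOfEquivOfLe hKC).toEquiv, J4Type.card_eq_inf_ker_mul_map ρ K',
      inf_eq_right.mpr hker, (card_ker_rho hJ hρ).2, himg, card_normalizer_M22 h9 hR3]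
  exact hmul.symm.trans (by rw [hKcard])

/-- Every Sylow 3-subgroup inside `H`. -/
theorem sylow_three (hw : HasWitness z P) (R : Sylow 3 G) (hR : (R : Subgroup G) ≤ cH z) :
    IsExtraspecial 3 ↥(R : Subgroup G) ∧ Nat.card ↥(R : Subgroup G) = 27 ∧
      Monoid.exponent ↥(R : Subgroup G) = 3 ∧ Subgroup.normalizer ((R : Subgroup G) : Set G) ≤ cH z ∧
      Nat.card ↥(Subgroup.normalizer ((R : Subgroup G) : Set G)) = 864 := by
  haveI : Fact (Nat.Prime 3) := ⟨Nat.prime_three⟩
  have hNP := normalizer_le hJ hw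
  obtain ⟨S, hSC, hPS, h27, hcen⟩ := exists_sylow_G hJ hNP
  have hR27 : Nat.card (R : Subgroup G) = 27 := by
    rw [R.card_eq_multiplicity, ← S.card_eq_multiplicity, h27]
  obtain ⟨hex, hexp⟩ := sylow_structure hJ hSC hPS h27 hcen
  obtain ⟨hle, hN⟩ := sylow_normalizer hJ hNP hSC hPS h27 hcen
  obtain ⟨h, hh, hhR⟩ := exists_conj_of_card hJ (hSC.trans inf_le_left) hR h27 hR27
  have hmap : (S : Subgroup G).map (MulAut.conj h).toMonoidHom = R := by
    refine Subgroup.eq_of_le_of_card_ge ?_ (by rw [ThreeTrans.Torsion.card_map_conj, h27, hR27])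
    rintro _ ⟨s, hs, rfl⟩
    exact hhR s hs
  let e : ↥(S : Subgroup G) ≃* ↥(R : Subgroup G) :=
    (Subgroup.equivMapOfInjective _ _ (MulAut.conj h).injective).trans (MulEquiv.subgroupCongr hmap)
  have hNmap : (Subgroup.normalizer ((S : Subgroup G) : Set G)).map (MulAut.conj h).toMonoidHom =
      Subgroup.normalizer ((R : Subgroup G) : Set G) := by
    rw [← hmap]; exact Subgroup.map_equiv_normalizer_eq (S : Subgroup G) (MulAut.conj h)
  refine ⟨CfsgLib.LargeExtra.isExtraspecial_of_equiv e hex, hR27, ?_, ?_, ?_⟩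
  · exact (Monoid.exponent_eq_of_mulEquiv e).symm.trans hexp
  · rw [← hNmap]
    rintro _ ⟨n, hn, rfl⟩
    exact mul_mem (mul_mem hh (hle hn)) (inv_mem hh)
  · rw [← hNmap, ThreeTrans.Torsion.card_map_conj, hN]

end CfsgLib.J4Type86.ThreeClass
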